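import Cfsg.Agent.SporB.Fi23.Max.Checks

/-!
The chain of commutators.
-/

set_option autoImplicit false
set_option maxRecDepth 100000

namespace Cfsg.Agent.CosetEnum.Fi23.Max

open Fi23

theorem chain0 : chainOK 0 = true := by decide +kernel

theorem chain1 : chainOK 1 = true := by decide +kernel

theorem chain2 : chainOK 2 = true := by decide +kernel

theorem chain3 : chainOK 3 = true := by decide +kernel

theorem chain4 : chainOK 4 = true := by decide +kernel

theorem chain5 : chainOK 5 = true := by decide +kernel

theorem chain6 : chainOK 6 = true := by decide +kernel

theorem chain7 : chainOK 7 = true := by decide +kernel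

theorem chain8 : chainOK 8 = true := by decide +kernel

theorem chain_top : bpts.all (fun b => Nat.beq (Rep.tbl.run (aW 9) b) b) = false := by decide +kernel

theorem chain_idx : (aWords.all fun w => w.all fun g => Nat.blt g 15) && (hWords.all fun w => w.all fun g => Nat.blt g 15) = true := by decide +kernel

end Cfsg.Agent.CosetEnum.Fi23.Max
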