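import Cfsg.Agent.SporB.Fi23.Max.Order
import Cfsg.Agent.SporB.Fi23.Max.CertChain
import Cfsg.Agent.S0144

/-!
A solvable maximal subgroup of `Fi23` of derived length 10.
-/

set_option autoImplicit false
set_option maxRecDepth 100000

namespace Cfsg.Agent.CosetEnum.Fi23.Max

open Fi23

attribute [local irreducible] evalWord

/-- The root of the class 0. -/
noncomputable def r0 : Pt := root 0

theorem root_lab : ∀ c < 3, Nat.blt (roots.getD c 0) 31671 = true ∧
    Nat.beq (lab (roots.getD c 0)) c = true := by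
  decide +kernel

theorem lab_root {c : ℕ} (hc : c < 3) : lab (root c) = c := by
  rw [root, val_mk (Nat.le_of_ble_eq_true (root_lab c hc).1)]
  exact Nat.eq_of_beq_eq_true (root_lab c hc).2

theorem pathR_ok : okW pathR = true ∧ Nat.beq (Rep.tbl.run pathR 0) (roots.getD 0 0) = true ∧
    okW (pathR.reverse ++ Rep.zWord ++ pathR) = true := by
  decide +kernel

theorem pt_pathR : pt pathR = r0 := by
  apply Fin.ext
  rw [pt_val pathR_ok.1, Nat.eq_of_beq_eq_true pathR_ok.2.1, r0, root,
    val_mk (Nat.le_of_ble_eq_true (root_lab 0 (by omega)).1)]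

theorem dR_maps : allRange (presOK (pathR.reverse ++ Rep.zWord ++ pathR)) 0 31671 = true := by
  decide +kernel

theorem dR_mem : dd pathR ∈ HM := by
  rw [← inv_mem_iff, dd_ev]
  refine inv_mem_of_maps fun i hi => ?_
  rw [map_inv, act_inv_apply pathR_ok.2.2]
  have h := allRange_spec dR_maps i (Nat.zero_le _) (by have := i.2; simp [Rep.tbl] at this ⊢ <;> omega)
  rw [presOK, show Nat.beq (lab i) 0 = true by rw [hi]; rfl, cond_true] at h
  exact Nat.eq_of_beq_eq_true h

theorem not_top : HM ≠ ⊤ := by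
  intro h
  obtain ⟨g, hg⟩ := rep.transitive nodup Rep.descend (root 1)
  obtain ⟨k, hk⟩ := rep.transitive nodup Rep.descend r0
  have hm : g * k⁻¹ ∈ HM := h ▸ Subgroup.mem_top _
  have e : act (g * k⁻¹) r0 = root 1 := by
    rw [map_mul, map_inv, Equiv.Perm.mul_apply, ← hk]
    exact (congrArg (act g) (Equiv.symm_apply_apply (act k) rep.base)).trans hg
  have := (hm r0).mpr (lab_root (c := 0) (by omega))
  rw [e, lab_root (c := 1) (by omega)] at this
  omega

theorem orbit_dvd (K : Subgroup pres.Gp) (b : Pt) (O : Finset Pt) (h1 : ∀ g ∈ K, act g b ∈ O)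
    (h2 : ∀ o ∈ O, ∃ g ∈ K, act g b = o) : O.card ∣ 4089470473293004800 := by
  rw [← card_eq]
  exact (Dvd.intro _ (card_orbit K b O h1 h2).symm).trans (Subgroup.card_subgroup_dvd_card K)

theorem count0 : countBelow (fun i => !Nat.beq (lab i) 2) 31671 = 11988 ∧
    countBelow (fun i => !Nat.beq (lab i) 1) 31671 = 20007 := by decide +kernel

theorem maximal_HM : IsCoatom HM := by
  classical
  refine ⟨not_top, fun M hM => ?_⟩
  obtain ⟨g, hgM, hgH⟩ := SetLike.exists_of_lt hM
  have hclass : ∀ i j : Pt, lab i = lab j → ∃ k ∈ M, act k i = j := fun i j h => by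
    obtain ⟨k, hk, he⟩ := same_class h
    exact ⟨k, hM.le hk, he⟩
  have hr : lab r0 = 0 := lab_root (by omega)
  -- some member of M takes the class 0 elsewhere
  obtain ⟨p, hp, hpne⟩ : ∃ p : Pt, lab p = 0 ∧ lab (act g p : Pt) ≠ 0 := by
    by_contra hno
    simp only [not_exists, not_and, not_not] at hno
    exact hgH (inv_mem_of_maps hno)
  obtain ⟨a, ha, hap⟩ := hclass r0 p (hr.trans hp.symm)
  have hreach : ∀ c, (∃ k ∈ M, lab (act k r0 : Pt) = c) → ∀ i : Pt, lab i = c →
      ∃ k ∈ M, act k r0 = i := by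
    rintro c ⟨k, hk, hkc⟩ i hi
    obtain ⟨u, hu, hue⟩ := hclass (act k r0) i (hkc.trans hi.symm)
    exact ⟨u * k, mul_mem hu hk, by rw [map_mul, Equiv.Perm.mul_apply, hue]⟩
  have h0 : ∃ k ∈ M, lab (act k r0 : Pt) = 0 := ⟨1, one_mem _, by rw [map_one]; exact hr⟩
  have hall : ∀ c < 3, ∃ k ∈ M, lab (act k r0 : Pt) = c := by
    have hc : ∃ k ∈ M, lab (act k r0 : Pt) ≠ 0 :=
      ⟨g * a, mul_mem hgM ha, by rw [map_mul, Equiv.Perm.mul_apply, hap]; exact hpne⟩
    by_contra hno
    simp only [not_forall, not_exists, not_and] at hno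
    obtain ⟨c, hc3, hnc⟩ := hno
    obtain ⟨k, hk, hk0⟩ := hc
    have hk3 := lab_lt (act k r0)
    have hc0 : c ≠ 0 := by rintro rfl; exact hnc 1 (one_mem _) (by rw [map_one]; exact hr)
    have hd := orbit_dvd M r0 (Finset.univ.filter fun i : Pt => (!Nat.beq (lab i) c) = true)
      (fun u hu => Finset.mem_filter.mpr ⟨Finset.mem_univ _, by
        rw [Bool.not_eq_true', ← Bool.not_eq_true, Nat.beq_eq]; exact hnc u hu⟩)
      (fun o ho => by
        have hoc := (Finset.mem_filter.mp ho).2
        rw [Bool.not_eq_true', ← Bool.not_eq_true, Nat.beq_eq] at hoc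
        have ho3 := lab_lt o
        rcases Nat.eq_zero_or_pos (lab o) with h | h
        · exact hreach 0 h0 o h
        · refine hreach (lab o) ⟨k, hk, ?_⟩ o rfl
          have := hnc k hk
          omega)
    interval_cases c
    · exact hc0 rfl
    · rw [card_filter count0.2] at hd
      norm_num at hd
    · rw [card_filter count0.1] at hd
      norm_num at hd
  rw [eq_top_iff]
  have hN : Subgroup.normalClosure {z} ≤ M := by
    rw [Subgroup.normalClosure, Subgroup.closure_le]
    intro x hx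
    obtain ⟨_, rfl, hx⟩ := Group.mem_conjugatesOfSet_iff.mp hx
    obtain ⟨c, rfl⟩ := isConj_iff.mp hx
    obtain ⟨k, hk, hkc⟩ := hreach _ (hall _ (lab_lt (act c rep.base))) (act c rep.base) rfl
    -- c fixes the class of the base point relative to k
    have hst : (k * (ev pathR)⁻¹)⁻¹ * c ∈ rep.stab nodup := by
      rw [InvPres.Rep.mem_stab]
      change act ((k * (ev pathR)⁻¹)⁻¹ * c) rep.base = rep.base
      rw [map_mul, Equiv.Perm.mul_apply, ← hkc, map_inv, map_mul, map_inv, mul_inv_rev, inv_inv,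
        Equiv.Perm.mul_apply]
      have e1 : ((act k)⁻¹ : Equiv.Perm Pt) (act k r0) = r0 := Equiv.symm_apply_apply (act k) r0
      rw [e1, ← pt_pathR]
      exact Equiv.apply_symm_apply (act (ev pathR)) _
    rw [← H_stab.1, ← centralizer_z, Subgroup.mem_centralizer_singleton_iff] at hst
    have e : c * z * c⁻¹ = k * dd pathR * k⁻¹ := by
      set s := (k * (ev pathR)⁻¹)⁻¹ * c with hs
      have hc : c = k * (ev pathR)⁻¹ * s := by rw [hs, mul_inv_cancel_left]
      rw [hc, dd]
      calc k * (ev pathR)⁻¹ * s * z * (k * (ev pathR)⁻¹ * s)⁻¹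
          = k * (ev pathR)⁻¹ * (s * z) * s⁻¹ * ev pathR * k⁻¹ := by group
        _ = k * (ev pathR)⁻¹ * (z * s) * s⁻¹ * ev pathR * k⁻¹ := by rw [hst]
        _ = _ := by group
    rw [e]
    exact mul_mem (mul_mem hk (hM.le dR_mem)) (inv_mem hk)
  rwa [top_of_mem (Subgroup.normalClosure {z}) (Subgroup.subset_normalClosure rfl)] at hN

theorem solvable_HM : Group.IsSolvable HM := by
  haveI := finite
  exact S0144.result 2 3 11 13 Nat.prime_two Nat.prime_three card_HM

theorem agree_eq {u v : List ℕ} (hu : okW u = true) (hv : okW v = true) (hu' : ev u ∈ HM)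
    (hv' : ev v ∈ HM)
    (h : (bpts.all fun b => Nat.beq (Rep.tbl.run u b) (Rep.tbl.run v b)) = true) : ev u = ev v := by
  rw [← mul_inv_eq_one, ← Subgroup.mem_bot, ← lvl_six]
  refine mem_lvl (mul_mem hu' (inv_mem hv')) fun k hk => ?_
  rw [List.all_eq_true] at h
  have hk' : (bp k : ℕ) ∈ bpts := by
    rw [bp_val (by omega), ← (pins_data.2.1 k hk).2]
    rw [List.getD_eq_getElem _ _ (by rw [show bpts.length = 6 by decide +kernel]; exact hk)]
    exact List.getElem_mem _
  have e := Nat.eq_of_beq_eq_true (h _ hk')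
  rw [← act_inv_apply hu, ← act_inv_apply hv] at e
  rw [map_mul, map_inv, Equiv.Perm.mul_apply, ← Fin.ext e]
  exact Equiv.apply_symm_apply (act (ev u)) _

theorem idx_ok {k : ℕ} : ((aWords.getD k []).all fun g => Nat.blt g 15) = true ∧
    ((hWords.getD k []).all fun g => Nat.blt g 15) = true := by
  have h := chain_idx
  simp only [Bool.and_eq_true, decide_eq_true_eq] at h
  rw [List.all_eq_true, List.all_eq_true] at h
  constructor
  · rcases Nat.lt_or_ge k aWords.length with hk | hk
    · rw [List.getD_eq_getElem _ _ hk]; exact h.1 _ (List.getElem_mem _)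
    · rw [List.getD_eq_default _ _ hk]; rfl
  · rcases Nat.lt_or_ge k hWords.length with hk | hk
    · rw [List.getD_eq_getElem _ _ hk]; exact h.2 _ (List.getElem_mem _)
    · rw [List.getD_eq_default _ _ hk]; rfl

/-- An element of the chain. -/
noncomputable def aE (k : ℕ) : HM := ⟨ev (aW k), (wordOf_ok idx_ok.1).2⟩

/-- A conjugating element. -/
noncomputable def hE (k : ℕ) : HM := ⟨ev (wordOf (hWords.getD k [])), (wordOf_ok idx_ok.2).2⟩

theorem chain_all {k : ℕ} (hk : k < 9) : chainOK k = true := by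
  interval_cases k
  exacts [chain0, chain1, chain2, chain3, chain4, chain5, chain6, chain7, chain8]

theorem aE_succ {k : ℕ} (hk : k < 9) : aE (k + 1) =
    (aE k)⁻¹ * ((hE k)⁻¹ * aE k * hE k)⁻¹ * aE k * ((hE k)⁻¹ * aE k * hE k) := by
  obtain ⟨ha, hA⟩ := wordOf_ok (ks := aWords.getD k []) idx_ok.1
  obtain ⟨hh, hH⟩ := wordOf_ok (ks := hWords.getD k []) idx_ok.2
  obtain ⟨ha', hA'⟩ := wordOf_ok (ks := aWords.getD (k + 1) []) idx_ok.1
  have hok : okW (cW k) = true := by
    simp only [cW, bW, aW, okW_append, okW_rev, ha, hh, Bool.and_self]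
  have hc : ev (cW k) = (ev (aW k))⁻¹ * ((ev (wordOf (hWords.getD k [])))⁻¹ * ev (aW k) *
      ev (wordOf (hWords.getD k [])))⁻¹ * ev (aW k) *
      ((ev (wordOf (hWords.getD k [])))⁻¹ * ev (aW k) * ev (wordOf (hWords.getD k []))) := by
    simp only [cW, bW, ev_append, ev_rev, mul_inv_rev, inv_inv, List.reverse_append,
      List.reverse_reverse, mul_assoc]
  have hmem : ev (cW k) ∈ HM := by
    rw [hc]
    exact mul_mem (mul_mem (mul_mem (inv_mem hA) (inv_mem (mul_mem (mul_mem (inv_mem hH) hA) hH))) hA)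
      (mul_mem (mul_mem (inv_mem hH) hA) hH)
  have e := agree_eq (u := cW k) (v := aW (k + 1)) hok ha' hmem hA' (chain_all hk)
  apply Subtype.ext
  simp only [Subgroup.coe_mul, Subgroup.coe_inv]
  exact e.symm.trans hc

theorem aE_mem : ∀ {k : ℕ}, k ≤ 9 → aE k ∈ derivedSeries HM k
  | 0, _ => Subgroup.mem_top _
  | k + 1, h => by
    have ha := aE_mem (k := k) (by omega)
    have hb : (hE k)⁻¹ * aE k * hE k ∈ derivedSeries HM k := by
      have := (derivedSeries_normal HM k).conj_mem _ ha (hE k)⁻¹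
      rwa [inv_inv] at this
    rw [derivedSeries_succ, aE_succ (by omega)]
    have := Subgroup.commutator_mem_commutator (inv_mem ha) (inv_mem hb)
    rwa [commutatorElement_def, inv_inv, inv_inv] at this

theorem derived_ne : derivedSeries HM 10 ≠ derivedSeries HM 9 := by
  haveI := solvable_HM
  have hne : derivedSeries HM 9 ≠ ⊥ := by
    intro h
    have h1 := aE_mem (k := 9) le_rfl
    rw [h, Subgroup.mem_bot] at h1
    have h2 : ev (aW 9) = 1 := congrArg Subtype.val h1
    have hx := chain_top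
    rw [← Bool.not_eq_true, List.all_eq_true] at hx
    apply hx
    intro b hb
    have hb' : b < 31671 := by
      have : (bpts.all fun b => Nat.blt b 31671) = true := by decide +kernel
      rw [List.all_eq_true] at this
      exact Nat.le_of_ble_eq_true (this b hb)
    have e := act_inv_apply (wordOf_ok (ks := aWords.getD 9 []) idx_ok.1).1 (mk b)
    change (((act (ev (aW 9)))⁻¹ (mk b) : Pt) : ℕ) = Rep.tbl.run (aW 9) _ at e
    rw [h2, map_one, inv_one, Equiv.Perm.one_apply, val_mk hb'] at e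
    rw [← e]
    exact Nat.beq_refl _
  rw [derivedSeries_succ]
  exact (IsSolvable.commutator_lt_of_ne_bot hne).ne

end Cfsg.Agent.CosetEnum.Fi23.Max
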