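import Cfsg.Agent.SporB.Fi23.Class
import Cfsg.Agent.SporB.Fi23.Max.Data

/-!
Classes of points seen from a point, and what it means to fix a point.
-/

set_option autoImplicit false
set_option maxRecDepth 100000

namespace Cfsg.Agent.CosetEnum.Fi23.Max

open Fi23

/-- The points. -/
abbrev Pt : Type := Fin Rep.tbl.n

/-- The action. -/
noncomputable def act : pres.Gp →* Equiv.Perm Pt := rep.hom nodup

/-- The value of a word. -/
noncomputable def ev (W : List ℕ) : pres.Gp := evalWord pres.val W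

/-- A word in the letters. -/
def okW (W : List ℕ) : Bool := W.all fun l => Nat.blt l 10

theorem okW_lt {W : List ℕ} (h : okW W = true) : ∀ l ∈ W, l < Rep.tbl.nl := fun l hl => by
  rw [okW, List.all_eq_true] at h
  exact Nat.le_of_ble_eq_true (h l hl)

theorem okW_rev {W : List ℕ} : okW W.reverse = okW W := by
  simp [okW, List.all_reverse]

theorem okW_append {U V : List ℕ} : okW (U ++ V) = (okW U && okW V) := by
  simp [okW, List.all_append]

theorem ev_append (U V : List ℕ) : ev (U ++ V) = ev U * ev V := evalWord_append _ U V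

theorem ev_rev (W : List ℕ) : ev W.reverse = (ev W)⁻¹ := inv_word W

theorem act_inj : Function.Injective act := faithful

theorem act_inv_apply {W : List ℕ} (hW : okW W = true) (i : Pt) :
    (((act (ev W))⁻¹ i : Pt) : ℕ) = Rep.tbl.run W i :=
  rep.hom_inv_apply nodup (okW_lt hW) i

theorem act_apply {W : List ℕ} (hW : okW W = true) (i : Pt) :
    ((act (ev W) i : Pt) : ℕ) = Rep.tbl.run W.reverse i := by
  rw [← act_inv_apply (okW_rev.trans hW) i, ev_rev, map_inv, inv_inv]

theorem run_lt {W : List ℕ} (hW : okW W = true) (i : Pt) : Rep.tbl.run W i < 31671 := by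
  rw [← act_inv_apply hW i]
  exact ((act (ev W))⁻¹ i).2

/-- The point numbered `i`, or the base point. -/
noncomputable def mk (i : ℕ) : Pt := if h : i < Rep.tbl.n then ⟨i, h⟩ else rep.base

theorem mk_val (i : Pt) : mk i = i := by rw [mk, dif_pos i.2]

theorem val_mk {i : ℕ} (h : i < 31671) : ((mk i : Pt) : ℕ) = i := by
  rw [mk, dif_pos (show i < Rep.tbl.n from h)]

/-- The point at the end of a path. -/
noncomputable def pt (W : List ℕ) : Pt := (act (ev W))⁻¹ rep.base

theorem pt_val {W : List ℕ} (hW : okW W = true) : (pt W : ℕ) = Rep.tbl.run W 0 :=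
  act_inv_apply hW rep.base

/-- The transposition of the point at the end of a path. -/
noncomputable def dd (W : List ℕ) : pres.Gp := (ev W)⁻¹ * z * ev W

theorem dd_ev (W : List ℕ) : dd W = ev (W.reverse ++ Rep.zWord ++ W) := by
  rw [ev_append, ev_append, ev_rev]
  rfl

theorem dd_inv (W : List ℕ) : (dd W)⁻¹ = dd W := by
  rw [inv_eq_iff_mul_eq_one, dd]
  calc (ev W)⁻¹ * z * ev W * ((ev W)⁻¹ * z * ev W) = (ev W)⁻¹ * (z * z) * ev W := by group
    _ = 1 := by rw [z_sq]; group

theorem mem_stab_of_fix {W : List ℕ} {g : pres.Gp} (h : act g (pt W) = pt W) :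
    ev W * g * (ev W)⁻¹ ∈ rep.stab nodup := by
  rw [InvPres.Rep.mem_stab]
  change act (ev W * g * (ev W)⁻¹) rep.base = rep.base
  rw [map_mul, map_mul, map_inv, Equiv.Perm.mul_apply, Equiv.Perm.mul_apply,
    show (act (ev W))⁻¹ rep.base = pt W from rfl, h]
  exact Equiv.apply_symm_apply (act (ev W)) _

theorem comm_of_fix {W : List ℕ} {g : pres.Gp} (h : act g (pt W) = pt W) : Commute g (dd W) := by
  have h1 := mem_stab_of_fix h
  rw [← H_stab.1, ← centralizer_z, Subgroup.mem_centralizer_singleton_iff] at h1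
  show g * ((ev W)⁻¹ * z * ev W) = (ev W)⁻¹ * z * ev W * g
  calc g * ((ev W)⁻¹ * z * ev W) = (ev W)⁻¹ * ((ev W * g * (ev W)⁻¹) * z) * ev W := by group
    _ = (ev W)⁻¹ * (z * (ev W * g * (ev W)⁻¹)) * ev W := by rw [h1]
    _ = _ := by group

theorem lab_stab {k : pres.Gp} (hk : k ∈ rep.stab nodup) (i : Pt) :
    Rep.orb.getLab (act k i : Pt) = Rep.orb.getLab i := by
  have hc : Rep.orb.getLab i < 3 :=
    Nat.le_of_ble_eq_true (allRange_spec Rep.lab_ok i (Nat.zero_le _) (by have := i.2; simp [Rep.tbl] at this ⊢ <;> omega))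
  have hr := allRange_spec Rep.roots_ok _ (Nat.zero_le _) (by omega : Rep.orb.getLab i < 0 + 3)
  rw [Bool.and_eq_true] at hr
  obtain ⟨q, -, himg, -⟩ := rep.exists_orbit nodup Rep.descend Rep.ws Rep.ws_ok stab_closure Rep.orb
    (Rep.orb.getLab i) (Rep.roots.getD (Rep.orb.getLab i) 0) (Nat.le_of_ble_eq_true hr.1) hr.2
    (fun p hp => allRange_spec (Rep.orbit p hp) _ (Nat.zero_le _) (by omega))
  have hi : i ∈ rep.point nodup '' MulAction.orbit (rep.stab nodup) q := by
    rw [himg]; exact Nat.beq_refl _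
  obtain ⟨p, ⟨a, ha⟩, hp⟩ := hi
  have hm : act k i ∈ rep.point nodup '' MulAction.orbit (rep.stab nodup) q := by
    refine ⟨k • p, ⟨⟨k, hk⟩ * a, ?_⟩, ?_⟩
    · show ((⟨k, hk⟩ * a : rep.stab nodup) : pres.Gp) • q = k • p
      rw [Subgroup.coe_mul, mul_smul, ← ha]
      rfl
    · rw [rep.point_smul, hp]
      rfl
  rw [himg] at hm
  exact Nat.eq_of_beq_eq_true hm

/-- The class of a point seen from the end of a path. -/
noncomputable def cls (W : List ℕ) (q : ℕ) : ℕ := Rep.orb.getLab (Rep.tbl.run W.reverse q)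

theorem cls_inv {W : List ℕ} (hW : okW W = true) {g : pres.Gp} (h : act g (pt W) = pt W) (q : Pt) :
    cls W (act g q : Pt) = cls W q := by
  rw [cls, cls, ← act_apply hW, ← act_apply hW, ← lab_stab (mem_stab_of_fix h) (act (ev W) q)]
  congr 2
  rw [← Equiv.Perm.mul_apply, ← Equiv.Perm.mul_apply, ← map_mul, ← map_mul]
  congr 2
  group

/-- Points that look like `t` from all the given paths are among the allowed ones. -/
noncomputable def candOK (Ws : List (List ℕ)) (allowed : List ℕ) (t i : ℕ) : Bool :=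
  !(Ws.all fun W => Nat.beq (cls W i) (cls W t)) || allowed.any (Nat.beq i)

theorem mem_allowed {Ws : List (List ℕ)} {allowed : List ℕ} {t : Pt}
    (hWs : ∀ W ∈ Ws, okW W = true)
    (h : ∀ i < 31671, candOK Ws allowed t i = true) {g : pres.Gp}
    (hg : ∀ W ∈ Ws, act g (pt W) = pt W) : ((act g t : Pt) : ℕ) ∈ allowed := by
  have hc := h _ (act g t).2
  simp only [candOK, Bool.or_eq_true, Bool.not_eq_true'] at hc
  rcases hc with hc | hc
  · exfalso
    rw [← Bool.not_eq_true, List.all_eq_true] at hc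
    apply hc
    intro W hW
    rw [cls_inv (hWs W hW) (hg W hW)]
    exact Nat.beq_refl _
  · rw [List.any_eq_true] at hc
    obtain ⟨x, hx, he⟩ := hc
    rwa [Nat.eq_of_beq_eq_true he]

/-- The point fixers. -/
noncomputable def fixer (p : Pt) : Subgroup pres.Gp :=
  (MulAction.stabilizer (Equiv.Perm Pt) p).comap act

theorem mem_fixer {p : Pt} {g : pres.Gp} : g ∈ fixer p ↔ act g p = p := Iff.rfl

theorem card_orbit (K : Subgroup pres.Gp) (b : Pt) (O : Finset Pt) (h1 : ∀ g ∈ K, act g b ∈ O)
    (h2 : ∀ o ∈ O, ∃ g ∈ K, act g b = o) :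
    Nat.card K = O.card * Nat.card (K ⊓ fixer b : Subgroup pres.Gp) := by
  letI : MulAction K Pt := MulAction.compHom _ (act.comp K.subtype)
  have hst : MulAction.stabilizer K b = (K ⊓ fixer b).subgroupOf K := by
    ext g
    exact ⟨fun h => ⟨g.2, h⟩, fun h => h.2⟩
  have hor : MulAction.orbit K b = (O : Set Pt) := by
    ext p
    constructor
    · rintro ⟨g, rfl⟩
      exact h1 g g.2
    · intro hp
      obtain ⟨g, hg, he⟩ := h2 p hp
      exact ⟨⟨g, hg⟩, he⟩
  rw [← Subgroup.card_mul_index (MulAction.stabilizer K b), MulAction.index_stabilizer, hor,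
    Set.ncard_coe_finset, hst, Nat.card_congr (Subgroup.subgroupOfEquivOfLe inf_le_left).toEquiv,
    mul_comm]

end Cfsg.Agent.CosetEnum.Fi23.Max
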