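import Cfsg.Agent.SporB.Fi23.Max.Checks

/-!
The generators keep the class 0.
-/

set_option autoImplicit false
set_option maxRecDepth 100000

namespace Cfsg.Agent.CosetEnum.Fi23.Max

open Fi23

theorem gens_len : gensW.length = 15 := by decide +kernel

theorem gens_letters : gensW.all okW = true := by decide +kernel

theorem pres0_0 : allRange (presOK (gen 0)) 0 8192 = true := by decide +kernel

theorem pres0_1 : allRange (presOK (gen 0)) 8192 8192 = true := by decide +kernel

theorem pres0_2 : allRange (presOK (gen 0)) 16384 8192 = true := by decide +kernel

theorem pres0_3 : allRange (presOK (gen 0)) 24576 7095 = true := by decide +kernel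

theorem pres0 : ∀ i < 31671, (presOK (gen 0)) i = true := by
  intro i hi
  rcases Nat.lt_or_ge i 8192 with h | h
  · exact allRange_spec pres0_0 i (by omega) (by omega)
  rcases Nat.lt_or_ge i 16384 with h | h
  · exact allRange_spec pres0_1 i (by omega) (by omega)
  rcases Nat.lt_or_ge i 24576 with h | h
  · exact allRange_spec pres0_2 i (by omega) (by omega)
  exact allRange_spec pres0_3 i (by omega) (by omega)

theorem pres1_0 : allRange (presOK (gen 1)) 0 8192 = true := by decide +kernel

theorem pres1_1 : allRange (presOK (gen 1)) 8192 8192 = true := by decide +kernel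

theorem pres1_2 : allRange (presOK (gen 1)) 16384 8192 = true := by decide +kernel

theorem pres1_3 : allRange (presOK (gen 1)) 24576 7095 = true := by decide +kernel

theorem pres1 : ∀ i < 31671, (presOK (gen 1)) i = true := by
  intro i hi
  rcases Nat.lt_or_ge i 8192 with h | h
  · exact allRange_spec pres1_0 i (by omega) (by omega)
  rcases Nat.lt_or_ge i 16384 with h | h
  · exact allRange_spec pres1_1 i (by omega) (by omega)
  rcases Nat.lt_or_ge i 24576 with h | h
  · exact allRange_spec pres1_2 i (by omega) (by omega)
  exact allRange_spec pres1_3 i (by omega) (by omega)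

theorem pres2_0 : allRange (presOK (gen 2)) 0 8192 = true := by decide +kernel

theorem pres2_1 : allRange (presOK (gen 2)) 8192 8192 = true := by decide +kernel

theorem pres2_2 : allRange (presOK (gen 2)) 16384 8192 = true := by decide +kernel

theorem pres2_3 : allRange (presOK (gen 2)) 24576 7095 = true := by decide +kernel

theorem pres2 : ∀ i < 31671, (presOK (gen 2)) i = true := by
  intro i hi
  rcases Nat.lt_or_ge i 8192 with h | h
  · exact allRange_spec pres2_0 i (by omega) (by omega)
  rcases Nat.lt_or_ge i 16384 with h | h
  · exact allRange_spec pres2_1 i (by omega) (by omega)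
  rcases Nat.lt_or_ge i 24576 with h | h
  · exact allRange_spec pres2_2 i (by omega) (by omega)
  exact allRange_spec pres2_3 i (by omega) (by omega)

theorem pres3_0 : allRange (presOK (gen 3)) 0 8192 = true := by decide +kernel

theorem pres3_1 : allRange (presOK (gen 3)) 8192 8192 = true := by decide +kernel

theorem pres3_2 : allRange (presOK (gen 3)) 16384 8192 = true := by decide +kernel

theorem pres3_3 : allRange (presOK (gen 3)) 24576 7095 = true := by decide +kernel

theorem pres3 : ∀ i < 31671, (presOK (gen 3)) i = true := by
  intro i hi
  rcases Nat.lt_or_ge i 8192 with h | h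
  · exact allRange_spec pres3_0 i (by omega) (by omega)
  rcases Nat.lt_or_ge i 16384 with h | h
  · exact allRange_spec pres3_1 i (by omega) (by omega)
  rcases Nat.lt_or_ge i 24576 with h | h
  · exact allRange_spec pres3_2 i (by omega) (by omega)
  exact allRange_spec pres3_3 i (by omega) (by omega)

theorem pres4_0 : allRange (presOK (gen 4)) 0 8192 = true := by decide +kernel

theorem pres4_1 : allRange (presOK (gen 4)) 8192 8192 = true := by decide +kernel

theorem pres4_2 : allRange (presOK (gen 4)) 16384 8192 = true := by decide +kernel

theorem pres4_3 : allRange (presOK (gen 4)) 24576 7095 = true := by decide +kernel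

theorem pres4 : ∀ i < 31671, (presOK (gen 4)) i = true := by
  intro i hi
  rcases Nat.lt_or_ge i 8192 with h | h
  · exact allRange_spec pres4_0 i (by omega) (by omega)
  rcases Nat.lt_or_ge i 16384 with h | h
  · exact allRange_spec pres4_1 i (by omega) (by omega)
  rcases Nat.lt_or_ge i 24576 with h | h
  · exact allRange_spec pres4_2 i (by omega) (by omega)
  exact allRange_spec pres4_3 i (by omega) (by omega)

theorem pres5_0 : allRange (presOK (gen 5)) 0 8192 = true := by decide +kernel

theorem pres5_1 : allRange (presOK (gen 5)) 8192 8192 = true := by decide +kernel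

theorem pres5_2 : allRange (presOK (gen 5)) 16384 8192 = true := by decide +kernel

theorem pres5_3 : allRange (presOK (gen 5)) 24576 7095 = true := by decide +kernel

theorem pres5 : ∀ i < 31671, (presOK (gen 5)) i = true := by
  intro i hi
  rcases Nat.lt_or_ge i 8192 with h | h
  · exact allRange_spec pres5_0 i (by omega) (by omega)
  rcases Nat.lt_or_ge i 16384 with h | h
  · exact allRange_spec pres5_1 i (by omega) (by omega)
  rcases Nat.lt_or_ge i 24576 with h | h
  · exact allRange_spec pres5_2 i (by omega) (by omega)
  exact allRange_spec pres5_3 i (by omega) (by omega)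

theorem pres6_0 : allRange (presOK (gen 6)) 0 8192 = true := by decide +kernel

theorem pres6_1 : allRange (presOK (gen 6)) 8192 8192 = true := by decide +kernel

theorem pres6_2 : allRange (presOK (gen 6)) 16384 8192 = true := by decide +kernel

theorem pres6_3 : allRange (presOK (gen 6)) 24576 7095 = true := by decide +kernel

theorem pres6 : ∀ i < 31671, (presOK (gen 6)) i = true := by
  intro i hi
  rcases Nat.lt_or_ge i 8192 with h | h
  · exact allRange_spec pres6_0 i (by omega) (by omega)
  rcases Nat.lt_or_ge i 16384 with h | h
  · exact allRange_spec pres6_1 i (by omega) (by omega)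
  rcases Nat.lt_or_ge i 24576 with h | h
  · exact allRange_spec pres6_2 i (by omega) (by omega)
  exact allRange_spec pres6_3 i (by omega) (by omega)

theorem pres7_0 : allRange (presOK (gen 7)) 0 8192 = true := by decide +kernel

theorem pres7_1 : allRange (presOK (gen 7)) 8192 8192 = true := by decide +kernel

theorem pres7_2 : allRange (presOK (gen 7)) 16384 8192 = true := by decide +kernel

theorem pres7_3 : allRange (presOK (gen 7)) 24576 7095 = true := by decide +kernel

theorem pres7 : ∀ i < 31671, (presOK (gen 7)) i = true := by
  intro i hi
  rcases Nat.lt_or_ge i 8192 with h | h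
  · exact allRange_spec pres7_0 i (by omega) (by omega)
  rcases Nat.lt_or_ge i 16384 with h | h
  · exact allRange_spec pres7_1 i (by omega) (by omega)
  rcases Nat.lt_or_ge i 24576 with h | h
  · exact allRange_spec pres7_2 i (by omega) (by omega)
  exact allRange_spec pres7_3 i (by omega) (by omega)

theorem pres8_0 : allRange (presOK (gen 8)) 0 8192 = true := by decide +kernel

theorem pres8_1 : allRange (presOK (gen 8)) 8192 8192 = true := by decide +kernel

theorem pres8_2 : allRange (presOK (gen 8)) 16384 8192 = true := by decide +kernel

theorem pres8_3 : allRange (presOK (gen 8)) 24576 7095 = true := by decide +kernel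

theorem pres8 : ∀ i < 31671, (presOK (gen 8)) i = true := by
  intro i hi
  rcases Nat.lt_or_ge i 8192 with h | h
  · exact allRange_spec pres8_0 i (by omega) (by omega)
  rcases Nat.lt_or_ge i 16384 with h | h
  · exact allRange_spec pres8_1 i (by omega) (by omega)
  rcases Nat.lt_or_ge i 24576 with h | h
  · exact allRange_spec pres8_2 i (by omega) (by omega)
  exact allRange_spec pres8_3 i (by omega) (by omega)

theorem pres9_0 : allRange (presOK (gen 9)) 0 8192 = true := by decide +kernel

theorem pres9_1 : allRange (presOK (gen 9)) 8192 8192 = true := by decide +kernel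

theorem pres9_2 : allRange (presOK (gen 9)) 16384 8192 = true := by decide +kernel

theorem pres9_3 : allRange (presOK (gen 9)) 24576 7095 = true := by decide +kernel

theorem pres9 : ∀ i < 31671, (presOK (gen 9)) i = true := by
  intro i hi
  rcases Nat.lt_or_ge i 8192 with h | h
  · exact allRange_spec pres9_0 i (by omega) (by omega)
  rcases Nat.lt_or_ge i 16384 with h | h
  · exact allRange_spec pres9_1 i (by omega) (by omega)
  rcases Nat.lt_or_ge i 24576 with h | h
  · exact allRange_spec pres9_2 i (by omega) (by omega)
  exact allRange_spec pres9_3 i (by omega) (by omega)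

theorem pres10_0 : allRange (presOK (gen 10)) 0 8192 = true := by decide +kernel

theorem pres10_1 : allRange (presOK (gen 10)) 8192 8192 = true := by decide +kernel

theorem pres10_2 : allRange (presOK (gen 10)) 16384 8192 = true := by decide +kernel

theorem pres10_3 : allRange (presOK (gen 10)) 24576 7095 = true := by decide +kernel

theorem pres10 : ∀ i < 31671, (presOK (gen 10)) i = true := by
  intro i hi
  rcases Nat.lt_or_ge i 8192 with h | h
  · exact allRange_spec pres10_0 i (by omega) (by omega)
  rcases Nat.lt_or_ge i 16384 with h | h
  · exact allRange_spec pres10_1 i (by omega) (by omega)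
  rcases Nat.lt_or_ge i 24576 with h | h
  · exact allRange_spec pres10_2 i (by omega) (by omega)
  exact allRange_spec pres10_3 i (by omega) (by omega)

theorem pres11_0 : allRange (presOK (gen 11)) 0 8192 = true := by decide +kernel

theorem pres11_1 : allRange (presOK (gen 11)) 8192 8192 = true := by decide +kernel

theorem pres11_2 : allRange (presOK (gen 11)) 16384 8192 = true := by decide +kernel

theorem pres11_3 : allRange (presOK (gen 11)) 24576 7095 = true := by decide +kernel

theorem pres11 : ∀ i < 31671, (presOK (gen 11)) i = true := by
  intro i hi
  rcases Nat.lt_or_ge i 8192 with h | h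
  · exact allRange_spec pres11_0 i (by omega) (by omega)
  rcases Nat.lt_or_ge i 16384 with h | h
  · exact allRange_spec pres11_1 i (by omega) (by omega)
  rcases Nat.lt_or_ge i 24576 with h | h
  · exact allRange_spec pres11_2 i (by omega) (by omega)
  exact allRange_spec pres11_3 i (by omega) (by omega)

theorem pres12_0 : allRange (presOK (gen 12)) 0 8192 = true := by decide +kernel

theorem pres12_1 : allRange (presOK (gen 12)) 8192 8192 = true := by decide +kernel

theorem pres12_2 : allRange (presOK (gen 12)) 16384 8192 = true := by decide +kernel

theorem pres12_3 : allRange (presOK (gen 12)) 24576 7095 = true := by decide +kernel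

theorem pres12 : ∀ i < 31671, (presOK (gen 12)) i = true := by
  intro i hi
  rcases Nat.lt_or_ge i 8192 with h | h
  · exact allRange_spec pres12_0 i (by omega) (by omega)
  rcases Nat.lt_or_ge i 16384 with h | h
  · exact allRange_spec pres12_1 i (by omega) (by omega)
  rcases Nat.lt_or_ge i 24576 with h | h
  · exact allRange_spec pres12_2 i (by omega) (by omega)
  exact allRange_spec pres12_3 i (by omega) (by omega)

theorem pres13_0 : allRange (presOK (gen 13)) 0 8192 = true := by decide +kernel

theorem pres13_1 : allRange (presOK (gen 13)) 8192 8192 = true := by decide +kernel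

theorem pres13_2 : allRange (presOK (gen 13)) 16384 8192 = true := by decide +kernel

theorem pres13_3 : allRange (presOK (gen 13)) 24576 7095 = true := by decide +kernel

theorem pres13 : ∀ i < 31671, (presOK (gen 13)) i = true := by
  intro i hi
  rcases Nat.lt_or_ge i 8192 with h | h
  · exact allRange_spec pres13_0 i (by omega) (by omega)
  rcases Nat.lt_or_ge i 16384 with h | h
  · exact allRange_spec pres13_1 i (by omega) (by omega)
  rcases Nat.lt_or_ge i 24576 with h | h
  · exact allRange_spec pres13_2 i (by omega) (by omega)
  exact allRange_spec pres13_3 i (by omega) (by omega)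

theorem pres14_0 : allRange (presOK (gen 14)) 0 8192 = true := by decide +kernel

theorem pres14_1 : allRange (presOK (gen 14)) 8192 8192 = true := by decide +kernel

theorem pres14_2 : allRange (presOK (gen 14)) 16384 8192 = true := by decide +kernel

theorem pres14_3 : allRange (presOK (gen 14)) 24576 7095 = true := by decide +kernel

theorem pres14 : ∀ i < 31671, (presOK (gen 14)) i = true := by
  intro i hi
  rcases Nat.lt_or_ge i 8192 with h | h
  · exact allRange_spec pres14_0 i (by omega) (by omega)
  rcases Nat.lt_or_ge i 16384 with h | h
  · exact allRange_spec pres14_1 i (by omega) (by omega)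
  rcases Nat.lt_or_ge i 24576 with h | h
  · exact allRange_spec pres14_2 i (by omega) (by omega)
  exact allRange_spec pres14_3 i (by omega) (by omega)

end Cfsg.Agent.CosetEnum.Fi23.Max
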