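import Cfsg.Agent.SporB.Fi23.Max.Checks

/-!
The points of the letters.
-/

set_option autoImplicit false
set_option maxRecDepth 100000

namespace Cfsg.Agent.CosetEnum.Fi23.Max

open Fi23

theorem letter5_ok_0 : allRange (letterOK 5) 0 4096 = true := by decide +kernel

theorem letter5_ok_1 : allRange (letterOK 5) 4096 4096 = true := by decide +kernel

theorem letter5_ok_2 : allRange (letterOK 5) 8192 4096 = true := by decide +kernel

theorem letter5_ok_3 : allRange (letterOK 5) 12288 4096 = true := by decide +kernel

theorem letter5_ok_4 : allRange (letterOK 5) 16384 4096 = true := by decide +kernel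

theorem letter5_ok_5 : allRange (letterOK 5) 20480 4096 = true := by decide +kernel

theorem letter5_ok_6 : allRange (letterOK 5) 24576 4096 = true := by decide +kernel

theorem letter5_ok_7 : allRange (letterOK 5) 28672 2999 = true := by decide +kernel

theorem letter5_ok : ∀ i < 31671, (letterOK 5) i = true := by
  intro i hi
  rcases Nat.lt_or_ge i 4096 with h | h
  · exact allRange_spec letter5_ok_0 i (by omega) (by omega)
  rcases Nat.lt_or_ge i 8192 with h | h
  · exact allRange_spec letter5_ok_1 i (by omega) (by omega)
  rcases Nat.lt_or_ge i 12288 with h | h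
  · exact allRange_spec letter5_ok_2 i (by omega) (by omega)
  rcases Nat.lt_or_ge i 16384 with h | h
  · exact allRange_spec letter5_ok_3 i (by omega) (by omega)
  rcases Nat.lt_or_ge i 20480 with h | h
  · exact allRange_spec letter5_ok_4 i (by omega) (by omega)
  rcases Nat.lt_or_ge i 24576 with h | h
  · exact allRange_spec letter5_ok_5 i (by omega) (by omega)
  rcases Nat.lt_or_ge i 28672 with h | h
  · exact allRange_spec letter5_ok_6 i (by omega) (by omega)
  exact allRange_spec letter5_ok_7 i (by omega) (by omega)

theorem letter6_ok_0 : allRange (letterOK 6) 0 4096 = true := by decide +kernel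

theorem letter6_ok_1 : allRange (letterOK 6) 4096 4096 = true := by decide +kernel

theorem letter6_ok_2 : allRange (letterOK 6) 8192 4096 = true := by decide +kernel

theorem letter6_ok_3 : allRange (letterOK 6) 12288 4096 = true := by decide +kernel

theorem letter6_ok_4 : allRange (letterOK 6) 16384 4096 = true := by decide +kernel

theorem letter6_ok_5 : allRange (letterOK 6) 20480 4096 = true := by decide +kernel

theorem letter6_ok_6 : allRange (letterOK 6) 24576 4096 = true := by decide +kernel

theorem letter6_ok_7 : allRange (letterOK 6) 28672 2999 = true := by decide +kernel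

theorem letter6_ok : ∀ i < 31671, (letterOK 6) i = true := by
  intro i hi
  rcases Nat.lt_or_ge i 4096 with h | h
  · exact allRange_spec letter6_ok_0 i (by omega) (by omega)
  rcases Nat.lt_or_ge i 8192 with h | h
  · exact allRange_spec letter6_ok_1 i (by omega) (by omega)
  rcases Nat.lt_or_ge i 12288 with h | h
  · exact allRange_spec letter6_ok_2 i (by omega) (by omega)
  rcases Nat.lt_or_ge i 16384 with h | h
  · exact allRange_spec letter6_ok_3 i (by omega) (by omega)
  rcases Nat.lt_or_ge i 20480 with h | h
  · exact allRange_spec letter6_ok_4 i (by omega) (by omega)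
  rcases Nat.lt_or_ge i 24576 with h | h
  · exact allRange_spec letter6_ok_5 i (by omega) (by omega)
  rcases Nat.lt_or_ge i 28672 with h | h
  · exact allRange_spec letter6_ok_6 i (by omega) (by omega)
  exact allRange_spec letter6_ok_7 i (by omega) (by omega)

theorem letter7_ok_0 : allRange (letterOK 7) 0 4096 = true := by decide +kernel

theorem letter7_ok_1 : allRange (letterOK 7) 4096 4096 = true := by decide +kernel

theorem letter7_ok_2 : allRange (letterOK 7) 8192 4096 = true := by decide +kernel

theorem letter7_ok_3 : allRange (letterOK 7) 12288 4096 = true := by decide +kernel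

theorem letter7_ok_4 : allRange (letterOK 7) 16384 4096 = true := by decide +kernel

theorem letter7_ok_5 : allRange (letterOK 7) 20480 4096 = true := by decide +kernel

theorem letter7_ok_6 : allRange (letterOK 7) 24576 4096 = true := by decide +kernel

theorem letter7_ok_7 : allRange (letterOK 7) 28672 2999 = true := by decide +kernel

theorem letter7_ok : ∀ i < 31671, (letterOK 7) i = true := by
  intro i hi
  rcases Nat.lt_or_ge i 4096 with h | h
  · exact allRange_spec letter7_ok_0 i (by omega) (by omega)
  rcases Nat.lt_or_ge i 8192 with h | h
  · exact allRange_spec letter7_ok_1 i (by omega) (by omega)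
  rcases Nat.lt_or_ge i 12288 with h | h
  · exact allRange_spec letter7_ok_2 i (by omega) (by omega)
  rcases Nat.lt_or_ge i 16384 with h | h
  · exact allRange_spec letter7_ok_3 i (by omega) (by omega)
  rcases Nat.lt_or_ge i 20480 with h | h
  · exact allRange_spec letter7_ok_4 i (by omega) (by omega)
  rcases Nat.lt_or_ge i 24576 with h | h
  · exact allRange_spec letter7_ok_5 i (by omega) (by omega)
  rcases Nat.lt_or_ge i 28672 with h | h
  · exact allRange_spec letter7_ok_6 i (by omega) (by omega)
  exact allRange_spec letter7_ok_7 i (by omega) (by omega)

theorem letter8_ok_0 : allRange (letterOK 8) 0 4096 = true := by decide +kernel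

theorem letter8_ok_1 : allRange (letterOK 8) 4096 4096 = true := by decide +kernel

theorem letter8_ok_2 : allRange (letterOK 8) 8192 4096 = true := by decide +kernel

theorem letter8_ok_3 : allRange (letterOK 8) 12288 4096 = true := by decide +kernel

theorem letter8_ok_4 : allRange (letterOK 8) 16384 4096 = true := by decide +kernel

theorem letter8_ok_5 : allRange (letterOK 8) 20480 4096 = true := by decide +kernel

theorem letter8_ok_6 : allRange (letterOK 8) 24576 4096 = true := by decide +kernel

theorem letter8_ok_7 : allRange (letterOK 8) 28672 2999 = true := by decide +kernel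

theorem letter8_ok : ∀ i < 31671, (letterOK 8) i = true := by
  intro i hi
  rcases Nat.lt_or_ge i 4096 with h | h
  · exact allRange_spec letter8_ok_0 i (by omega) (by omega)
  rcases Nat.lt_or_ge i 8192 with h | h
  · exact allRange_spec letter8_ok_1 i (by omega) (by omega)
  rcases Nat.lt_or_ge i 12288 with h | h
  · exact allRange_spec letter8_ok_2 i (by omega) (by omega)
  rcases Nat.lt_or_ge i 16384 with h | h
  · exact allRange_spec letter8_ok_3 i (by omega) (by omega)
  rcases Nat.lt_or_ge i 20480 with h | h
  · exact allRange_spec letter8_ok_4 i (by omega) (by omega)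
  rcases Nat.lt_or_ge i 24576 with h | h
  · exact allRange_spec letter8_ok_5 i (by omega) (by omega)
  rcases Nat.lt_or_ge i 28672 with h | h
  · exact allRange_spec letter8_ok_6 i (by omega) (by omega)
  exact allRange_spec letter8_ok_7 i (by omega) (by omega)

end Cfsg.Agent.CosetEnum.Fi23.Max
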