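import Cfsg.Agent.SporB.Fi23.Max.Checks

/-!
The candidates on the levels.
-/

set_option autoImplicit false
set_option maxRecDepth 100000

namespace Cfsg.Agent.CosetEnum.Fi23.Max

open Fi23

theorem level1_ok_0 : allRange (levelOK 1) 0 4096 = true := by decide +kernel

theorem level1_ok_1 : allRange (levelOK 1) 4096 4096 = true := by decide +kernel

theorem level1_ok_2 : allRange (levelOK 1) 8192 4096 = true := by decide +kernel

theorem level1_ok_3 : allRange (levelOK 1) 12288 4096 = true := by decide +kernel

theorem level1_ok_4 : allRange (levelOK 1) 16384 4096 = true := by decide +kernel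

theorem level1_ok_5 : allRange (levelOK 1) 20480 4096 = true := by decide +kernel

theorem level1_ok_6 : allRange (levelOK 1) 24576 4096 = true := by decide +kernel

theorem level1_ok_7 : allRange (levelOK 1) 28672 2999 = true := by decide +kernel

theorem level1_ok : ∀ i < 31671, (levelOK 1) i = true := by
  intro i hi
  rcases Nat.lt_or_ge i 4096 with h | h
  · exact allRange_spec level1_ok_0 i (by omega) (by omega)
  rcases Nat.lt_or_ge i 8192 with h | h
  · exact allRange_spec level1_ok_1 i (by omega) (by omega)
  rcases Nat.lt_or_ge i 12288 with h | h
  · exact allRange_spec level1_ok_2 i (by omega) (by omega)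
  rcases Nat.lt_or_ge i 16384 with h | h
  · exact allRange_spec level1_ok_3 i (by omega) (by omega)
  rcases Nat.lt_or_ge i 20480 with h | h
  · exact allRange_spec level1_ok_4 i (by omega) (by omega)
  rcases Nat.lt_or_ge i 24576 with h | h
  · exact allRange_spec level1_ok_5 i (by omega) (by omega)
  rcases Nat.lt_or_ge i 28672 with h | h
  · exact allRange_spec level1_ok_6 i (by omega) (by omega)
  exact allRange_spec level1_ok_7 i (by omega) (by omega)

theorem level2_ok_0 : allRange (levelOK 2) 0 4096 = true := by decide +kernel

theorem level2_ok_1 : allRange (levelOK 2) 4096 4096 = true := by decide +kernel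

theorem level2_ok_2 : allRange (levelOK 2) 8192 4096 = true := by decide +kernel

theorem level2_ok_3 : allRange (levelOK 2) 12288 4096 = true := by decide +kernel

theorem level2_ok_4 : allRange (levelOK 2) 16384 4096 = true := by decide +kernel

theorem level2_ok_5 : allRange (levelOK 2) 20480 4096 = true := by decide +kernel

theorem level2_ok_6 : allRange (levelOK 2) 24576 4096 = true := by decide +kernel

theorem level2_ok_7 : allRange (levelOK 2) 28672 2999 = true := by decide +kernel

theorem level2_ok : ∀ i < 31671, (levelOK 2) i = true := by
  intro i hi
  rcases Nat.lt_or_ge i 4096 with h | h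
  · exact allRange_spec level2_ok_0 i (by omega) (by omega)
  rcases Nat.lt_or_ge i 8192 with h | h
  · exact allRange_spec level2_ok_1 i (by omega) (by omega)
  rcases Nat.lt_or_ge i 12288 with h | h
  · exact allRange_spec level2_ok_2 i (by omega) (by omega)
  rcases Nat.lt_or_ge i 16384 with h | h
  · exact allRange_spec level2_ok_3 i (by omega) (by omega)
  rcases Nat.lt_or_ge i 20480 with h | h
  · exact allRange_spec level2_ok_4 i (by omega) (by omega)
  rcases Nat.lt_or_ge i 24576 with h | h
  · exact allRange_spec level2_ok_5 i (by omega) (by omega)
  rcases Nat.lt_or_ge i 28672 with h | h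
  · exact allRange_spec level2_ok_6 i (by omega) (by omega)
  exact allRange_spec level2_ok_7 i (by omega) (by omega)

theorem level3_ok_0 : allRange (levelOK 3) 0 4096 = true := by decide +kernel

theorem level3_ok_1 : allRange (levelOK 3) 4096 4096 = true := by decide +kernel

theorem level3_ok_2 : allRange (levelOK 3) 8192 4096 = true := by decide +kernel

theorem level3_ok_3 : allRange (levelOK 3) 12288 4096 = true := by decide +kernel

theorem level3_ok_4 : allRange (levelOK 3) 16384 4096 = true := by decide +kernel

theorem level3_ok_5 : allRange (levelOK 3) 20480 4096 = true := by decide +kernel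

theorem level3_ok_6 : allRange (levelOK 3) 24576 4096 = true := by decide +kernel

theorem level3_ok_7 : allRange (levelOK 3) 28672 2999 = true := by decide +kernel

theorem level3_ok : ∀ i < 31671, (levelOK 3) i = true := by
  intro i hi
  rcases Nat.lt_or_ge i 4096 with h | h
  · exact allRange_spec level3_ok_0 i (by omega) (by omega)
  rcases Nat.lt_or_ge i 8192 with h | h
  · exact allRange_spec level3_ok_1 i (by omega) (by omega)
  rcases Nat.lt_or_ge i 12288 with h | h
  · exact allRange_spec level3_ok_2 i (by omega) (by omega)
  rcases Nat.lt_or_ge i 16384 with h | h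
  · exact allRange_spec level3_ok_3 i (by omega) (by omega)
  rcases Nat.lt_or_ge i 20480 with h | h
  · exact allRange_spec level3_ok_4 i (by omega) (by omega)
  rcases Nat.lt_or_ge i 24576 with h | h
  · exact allRange_spec level3_ok_5 i (by omega) (by omega)
  rcases Nat.lt_or_ge i 28672 with h | h
  · exact allRange_spec level3_ok_6 i (by omega) (by omega)
  exact allRange_spec level3_ok_7 i (by omega) (by omega)

theorem level4_ok_0 : allRange (levelOK 4) 0 4096 = true := by decide +kernel

theorem level4_ok_1 : allRange (levelOK 4) 4096 4096 = true := by decide +kernel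

theorem level4_ok_2 : allRange (levelOK 4) 8192 4096 = true := by decide +kernel

theorem level4_ok_3 : allRange (levelOK 4) 12288 4096 = true := by decide +kernel

theorem level4_ok_4 : allRange (levelOK 4) 16384 4096 = true := by decide +kernel

theorem level4_ok_5 : allRange (levelOK 4) 20480 4096 = true := by decide +kernel

theorem level4_ok_6 : allRange (levelOK 4) 24576 4096 = true := by decide +kernel

theorem level4_ok_7 : allRange (levelOK 4) 28672 2999 = true := by decide +kernel

theorem level4_ok : ∀ i < 31671, (levelOK 4) i = true := by
  intro i hi
  rcases Nat.lt_or_ge i 4096 with h | h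
  · exact allRange_spec level4_ok_0 i (by omega) (by omega)
  rcases Nat.lt_or_ge i 8192 with h | h
  · exact allRange_spec level4_ok_1 i (by omega) (by omega)
  rcases Nat.lt_or_ge i 12288 with h | h
  · exact allRange_spec level4_ok_2 i (by omega) (by omega)
  rcases Nat.lt_or_ge i 16384 with h | h
  · exact allRange_spec level4_ok_3 i (by omega) (by omega)
  rcases Nat.lt_or_ge i 20480 with h | h
  · exact allRange_spec level4_ok_4 i (by omega) (by omega)
  rcases Nat.lt_or_ge i 24576 with h | h
  · exact allRange_spec level4_ok_5 i (by omega) (by omega)
  rcases Nat.lt_or_ge i 28672 with h | h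
  · exact allRange_spec level4_ok_6 i (by omega) (by omega)
  exact allRange_spec level4_ok_7 i (by omega) (by omega)

theorem level5_ok_0 : allRange (levelOK 5) 0 4096 = true := by decide +kernel

theorem level5_ok_1 : allRange (levelOK 5) 4096 4096 = true := by decide +kernel

theorem level5_ok_2 : allRange (levelOK 5) 8192 4096 = true := by decide +kernel

theorem level5_ok_3 : allRange (levelOK 5) 12288 4096 = true := by decide +kernel

theorem level5_ok_4 : allRange (levelOK 5) 16384 4096 = true := by decide +kernel

theorem level5_ok_5 : allRange (levelOK 5) 20480 4096 = true := by decide +kernel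

theorem level5_ok_6 : allRange (levelOK 5) 24576 4096 = true := by decide +kernel

theorem level5_ok_7 : allRange (levelOK 5) 28672 2999 = true := by decide +kernel

theorem level5_ok : ∀ i < 31671, (levelOK 5) i = true := by
  intro i hi
  rcases Nat.lt_or_ge i 4096 with h | h
  · exact allRange_spec level5_ok_0 i (by omega) (by omega)
  rcases Nat.lt_or_ge i 8192 with h | h
  · exact allRange_spec level5_ok_1 i (by omega) (by omega)
  rcases Nat.lt_or_ge i 12288 with h | h
  · exact allRange_spec level5_ok_2 i (by omega) (by omega)
  rcases Nat.lt_or_ge i 16384 with h | h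
  · exact allRange_spec level5_ok_3 i (by omega) (by omega)
  rcases Nat.lt_or_ge i 20480 with h | h
  · exact allRange_spec level5_ok_4 i (by omega) (by omega)
  rcases Nat.lt_or_ge i 24576 with h | h
  · exact allRange_spec level5_ok_5 i (by omega) (by omega)
  rcases Nat.lt_or_ge i 28672 with h | h
  · exact allRange_spec level5_ok_6 i (by omega) (by omega)
  exact allRange_spec level5_ok_7 i (by omega) (by omega)

theorem trees_ok : ((List.range 5).all fun j => treeOK (j + 1) && lgensOK (j + 1)) = true := by decide +kernel

theorem count1 : countBelow (fun i => Nat.beq (lab i) 1) 31671 = 11664 := by decide +kernel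

end Cfsg.Agent.CosetEnum.Fi23.Max
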