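import Cfsg.Agent.SporB.Fi23.Max.Checks

/-!
The pins.
-/

set_option autoImplicit false
set_option maxRecDepth 100000

namespace Cfsg.Agent.CosetEnum.Fi23.Max

open Fi23

theorem pinPaths_ok : pinPathsOK = true := by decide +kernel

theorem steps_ok : allRange stepOK 0 58 = true := by decide +kernel

theorem swap_ok : swapOK = true := by decide +kernel

theorem a_ok_0 : allRange (aOK) 0 4096 = true := by decide +kernel

theorem a_ok_1 : allRange (aOK) 4096 4096 = true := by decide +kernel

theorem a_ok_2 : allRange (aOK) 8192 4096 = true := by decide +kernel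

theorem a_ok_3 : allRange (aOK) 12288 4096 = true := by decide +kernel

theorem a_ok_4 : allRange (aOK) 16384 4096 = true := by decide +kernel

theorem a_ok_5 : allRange (aOK) 20480 4096 = true := by decide +kernel

theorem a_ok_6 : allRange (aOK) 24576 4096 = true := by decide +kernel

theorem a_ok_7 : allRange (aOK) 28672 2999 = true := by decide +kernel

theorem a_ok : ∀ i < 31671, (aOK) i = true := by
  intro i hi
  rcases Nat.lt_or_ge i 4096 with h | h
  · exact allRange_spec a_ok_0 i (by omega) (by omega)
  rcases Nat.lt_or_ge i 8192 with h | h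
  · exact allRange_spec a_ok_1 i (by omega) (by omega)
  rcases Nat.lt_or_ge i 12288 with h | h
  · exact allRange_spec a_ok_2 i (by omega) (by omega)
  rcases Nat.lt_or_ge i 16384 with h | h
  · exact allRange_spec a_ok_3 i (by omega) (by omega)
  rcases Nat.lt_or_ge i 20480 with h | h
  · exact allRange_spec a_ok_4 i (by omega) (by omega)
  rcases Nat.lt_or_ge i 24576 with h | h
  · exact allRange_spec a_ok_5 i (by omega) (by omega)
  rcases Nat.lt_or_ge i 28672 with h | h
  · exact allRange_spec a_ok_6 i (by omega) (by omega)
  exact allRange_spec a_ok_7 i (by omega) (by omega)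

theorem l_ok_0 : allRange (lOK) 0 4096 = true := by decide +kernel

theorem l_ok_1 : allRange (lOK) 4096 4096 = true := by decide +kernel

theorem l_ok_2 : allRange (lOK) 8192 4096 = true := by decide +kernel

theorem l_ok_3 : allRange (lOK) 12288 4096 = true := by decide +kernel

theorem l_ok_4 : allRange (lOK) 16384 4096 = true := by decide +kernel

theorem l_ok_5 : allRange (lOK) 20480 4096 = true := by decide +kernel

theorem l_ok_6 : allRange (lOK) 24576 4096 = true := by decide +kernel

theorem l_ok_7 : allRange (lOK) 28672 2999 = true := by decide +kernel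

theorem l_ok : ∀ i < 31671, (lOK) i = true := by
  intro i hi
  rcases Nat.lt_or_ge i 4096 with h | h
  · exact allRange_spec l_ok_0 i (by omega) (by omega)
  rcases Nat.lt_or_ge i 8192 with h | h
  · exact allRange_spec l_ok_1 i (by omega) (by omega)
  rcases Nat.lt_or_ge i 12288 with h | h
  · exact allRange_spec l_ok_2 i (by omega) (by omega)
  rcases Nat.lt_or_ge i 16384 with h | h
  · exact allRange_spec l_ok_3 i (by omega) (by omega)
  rcases Nat.lt_or_ge i 20480 with h | h
  · exact allRange_spec l_ok_4 i (by omega) (by omega)
  rcases Nat.lt_or_ge i 24576 with h | h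
  · exact allRange_spec l_ok_5 i (by omega) (by omega)
  rcases Nat.lt_or_ge i 28672 with h | h
  · exact allRange_spec l_ok_6 i (by omega) (by omega)
  exact allRange_spec l_ok_7 i (by omega) (by omega)

end Cfsg.Agent.CosetEnum.Fi23.Max
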