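import Cfsg.Agent.SporB.Fi23.Max.Checks

/-!
Every point hangs below a root.
-/

set_option autoImplicit false
set_option maxRecDepth 100000

namespace Cfsg.Agent.CosetEnum.Fi23.Max

open Fi23

theorem up_ok_0 : allRange (upOK) 0 2048 = true := by decide +kernel

theorem up_ok_1 : allRange (upOK) 2048 2048 = true := by decide +kernel

theorem up_ok_2 : allRange (upOK) 4096 2048 = true := by decide +kernel

theorem up_ok_3 : allRange (upOK) 6144 2048 = true := by decide +kernel

theorem up_ok_4 : allRange (upOK) 8192 2048 = true := by decide +kernel

theorem up_ok_5 : allRange (upOK) 10240 2048 = true := by decide +kernel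

theorem up_ok_6 : allRange (upOK) 12288 2048 = true := by decide +kernel

theorem up_ok_7 : allRange (upOK) 14336 2048 = true := by decide +kernel

theorem up_ok_8 : allRange (upOK) 16384 2048 = true := by decide +kernel

theorem up_ok_9 : allRange (upOK) 18432 2048 = true := by decide +kernel

theorem up_ok_10 : allRange (upOK) 20480 2048 = true := by decide +kernel

theorem up_ok_11 : allRange (upOK) 22528 2048 = true := by decide +kernel

theorem up_ok_12 : allRange (upOK) 24576 2048 = true := by decide +kernel

theorem up_ok_13 : allRange (upOK) 26624 2048 = true := by decide +kernel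

theorem up_ok_14 : allRange (upOK) 28672 2048 = true := by decide +kernel

theorem up_ok_15 : allRange (upOK) 30720 951 = true := by decide +kernel

theorem up_ok : ∀ i < 31671, (upOK) i = true := by
  intro i hi
  rcases Nat.lt_or_ge i 2048 with h | h
  · exact allRange_spec up_ok_0 i (by omega) (by omega)
  rcases Nat.lt_or_ge i 4096 with h | h
  · exact allRange_spec up_ok_1 i (by omega) (by omega)
  rcases Nat.lt_or_ge i 6144 with h | h
  · exact allRange_spec up_ok_2 i (by omega) (by omega)
  rcases Nat.lt_or_ge i 8192 with h | h
  · exact allRange_spec up_ok_3 i (by omega) (by omega)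
  rcases Nat.lt_or_ge i 10240 with h | h
  · exact allRange_spec up_ok_4 i (by omega) (by omega)
  rcases Nat.lt_or_ge i 12288 with h | h
  · exact allRange_spec up_ok_5 i (by omega) (by omega)
  rcases Nat.lt_or_ge i 14336 with h | h
  · exact allRange_spec up_ok_6 i (by omega) (by omega)
  rcases Nat.lt_or_ge i 16384 with h | h
  · exact allRange_spec up_ok_7 i (by omega) (by omega)
  rcases Nat.lt_or_ge i 18432 with h | h
  · exact allRange_spec up_ok_8 i (by omega) (by omega)
  rcases Nat.lt_or_ge i 20480 with h | h
  · exact allRange_spec up_ok_9 i (by omega) (by omega)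
  rcases Nat.lt_or_ge i 22528 with h | h
  · exact allRange_spec up_ok_10 i (by omega) (by omega)
  rcases Nat.lt_or_ge i 24576 with h | h
  · exact allRange_spec up_ok_11 i (by omega) (by omega)
  rcases Nat.lt_or_ge i 26624 with h | h
  · exact allRange_spec up_ok_12 i (by omega) (by omega)
  rcases Nat.lt_or_ge i 28672 with h | h
  · exact allRange_spec up_ok_13 i (by omega) (by omega)
  rcases Nat.lt_or_ge i 30720 with h | h
  · exact allRange_spec up_ok_14 i (by omega) (by omega)
  exact allRange_spec up_ok_15 i (by omega) (by omega)


end Cfsg.Agent.CosetEnum.Fi23.Max
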