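import Cfsg.Agent.SporB.Fi23.Max.Base

/-!
The conditions on the data of the local subgroup.
-/

set_option autoImplicit false
set_option maxRecDepth 100000

namespace Cfsg.Agent.CosetEnum.Fi23.Max

open Fi23

/-- A generator. -/
def gen (k : ℕ) : List ℕ := gensW.getD k []

/-- A word in the generators. -/
def wordOf (ks : List ℕ) : List ℕ := ks.flatMap gen

/-- A word keeps the class 0. -/
noncomputable def presOK (W : List ℕ) (i : ℕ) : Bool :=
  bif Nat.beq (lab i) 0 then Nat.beq (lab (Rep.tbl.run W i)) 0 else true

/-- A point is a root or comes from one of smaller rank. -/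
noncomputable def upOK (i : ℕ) : Bool :=
  forceNat (lab i) fun c => Nat.blt c 3 && (Nat.beq i (roots.getD c 0) ||
    forceNat (pick i) fun j => Nat.blt j 3 &&
      forceNat (Rep.tbl.run (gen j).reverse i) fun p =>
        Nat.beq (lab p) c && Nat.blt (rank p) (rank i))

/-- Candidates of one level. -/
def cand : ℕ → List ℕ
  | 1 => cand1 | 2 => cand2 | 3 => cand3 | 4 => cand4 | 5 => cand5 | _ => []

/-- The tree of one level. -/
def tree : ℕ → List (ℕ × ℕ)
  | 1 => tree1 | 2 => tree2 | 3 => tree3 | 4 => tree4 | 5 => tree5 | _ => []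

/-- The generators of one level. -/
def lgens : ℕ → List ℕ
  | 1 => lgens1 | 2 => lgens2 | 3 => lgens3 | 4 => lgens4 | 5 => lgens5 | _ => []

/-- The generators of a level fix the earlier base points. -/
noncomputable def lgensOK (j : ℕ) : Bool :=
  (lgens j).all fun g => Nat.blt g 15 && (List.range j).all fun k =>
    Nat.beq (Rep.tbl.run (gen g) (bpts.getD k 0)) (bpts.getD k 0)

/-- The candidates of a level are reached. -/
noncomputable def treeOK (j : ℕ) : Bool :=
  Nat.beq ((cand j).getD 0 0) (bpts.getD j 0) && Nat.beq (lab (bpts.getD j 0)) 0 &&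
  (cand j).all (fun i => Nat.blt i 31671) && decide (cand j).Nodup &&
  (List.range (cand j).length).all fun k => Nat.beq k 0 ||
    (Nat.blt ((tree j).getD k (0, 0)).1 k && (lgens j).any (Nat.beq ((tree j).getD k (0, 0)).2) &&
      Nat.beq (Rep.tbl.run (gen ((tree j).getD k (0, 0)).2)
        ((cand j).getD ((tree j).getD k (0, 0)).1 0)) ((cand j).getD k 0))

/-- The candidates of a level are all. -/
noncomputable def levelOK (j i : ℕ) : Bool :=
  bif Nat.beq (lab i) 0 then candOK (bpaths.take j) (cand j) (bpts.getD j 0) i else true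

/-- The path to a pinned point. -/
def pp (k : ℕ) : List ℕ := pinPaths.getD k []

/-- The number of a pinned point. -/
def pn (k : ℕ) : ℕ := pinPts.getD k 0

/-- The word of the transposition of a pinned point. -/
def dW (k : ℕ) : List ℕ := (pp k).reverse ++ Rep.zWord ++ pp k

/-- A derivation step. -/
noncomputable def stepOK (k : ℕ) : Bool :=
  forceNat (pinSteps.getD k (0, 0)).1 fun i => forceNat (pinSteps.getD k (0, 0)).2 fun j =>
    Nat.blt i (6 + k) && Nat.blt j (6 + k) && Nat.beq (Rep.tbl.run (dW i) (pn j)) (pn (6 + k))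

/-- The paths lead to their points. -/
noncomputable def pinPathsOK : Bool :=
  pinPts.length == 66 && pinPaths.length == 66 &&
  ((List.range 66).all fun k => okW (pp k) && Nat.beq (Rep.tbl.run (pp k) 0) (pn k)) &&
  ((List.range 6).all fun k => okW (bpaths.getD k []) && Nat.beq (bpts.getD k 0) (pn k) &&
    decide (bpaths.getD k [] = pp k)) &&
  ((List.range 10).all fun l => okW (letterPaths.getD l []) &&
    Nat.beq (Rep.tbl.run (letterPaths.getD l []) 0) (letterPts.getD l 0)) &&
  Nat.beq (letterPts.getD 9 0) (pn 65) && useA.all (fun k => Nat.blt k 64) &&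
  useL.all (fun k => Nat.blt k 65) && letterUse.all (fun us => us.all fun k => Nat.blt k 66)

/-- The transposition of the point 64 against the pins. -/
noncomputable def swapOK : Bool :=
  ((List.range 65).all fun k => Nat.beq (Rep.tbl.run (dW 64) (pn k)) (pn k)) &&
  Nat.beq (Rep.tbl.run (dW 64) swapL) (pn 65) && Nat.blt outPt 31671 &&
  Nat.beq (lab outPt) 0 && !Nat.beq (lab (Rep.tbl.run (dW 64) outPt)) 0

/-- The point 64 is determined. -/
noncomputable def aOK (i : ℕ) : Bool := candOK (useA.map pp) [pn 64] (pn 64) i

/-- The point 65 has two possible images. -/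
noncomputable def lOK (i : ℕ) : Bool := candOK (useL.map pp) [pn 65, swapL] (pn 65) i

/-- The points of the letters are determined. -/
noncomputable def letterOK (l i : ℕ) : Bool :=
  candOK ((letterUse.getD l []).map pp) [letterPts.getD l 0] (letterPts.getD l 0) i

/-- The word of an element of the chain. -/
def aW (k : ℕ) : List ℕ := wordOf (aWords.getD k [])

/-- The word of a conjugate. -/
def bW (k : ℕ) : List ℕ :=
  (wordOf (hWords.getD k [])).reverse ++ aW k ++ wordOf (hWords.getD k [])

/-- The word of the commutator. -/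
def cW (k : ℕ) : List ℕ := (aW k).reverse ++ (bW k).reverse ++ aW k ++ bW k

/-- One step of the chain, on the base. -/
noncomputable def chainOK (k : ℕ) : Bool :=
  bpts.all fun b => Nat.beq (Rep.tbl.run (cW k) b) (Rep.tbl.run (aW (k + 1)) b)

end Cfsg.Agent.CosetEnum.Fi23.Max
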