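import Cfsg.Agent.SporB.Fi23.Max.Checks
import Cfsg.Agent.SporB.Fi23.Max.CertUp
import Cfsg.Agent.SporB.Fi23.Max.CertGens
import Mathlib.GroupTheory.Solvable

/-!
The stabiliser of the class 0 and its orbits.
-/

set_option autoImplicit false
set_option maxRecDepth 100000

namespace Cfsg.Agent.CosetEnum.Fi23.Max

open Fi23

attribute [local irreducible] evalWord

/-- The stabiliser of the class 0. -/
noncomputable def HM : Subgroup pres.Gp where
  carrier := {g | ∀ i : Pt, lab (act g i : Pt) = 0 ↔ lab i = 0}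
  one_mem' i := by rw [map_one]; rfl
  mul_mem' {a b} ha hb i := by rw [map_mul, Equiv.Perm.mul_apply]; exact (ha _).trans (hb i)
  inv_mem' {a} ha i := by
    have h := ha ((act a)⁻¹ i)
    rw [show act a ((act a)⁻¹ i) = i from Equiv.apply_symm_apply (act a) i] at h
    rw [map_inv]
    exact h.symm

theorem inv_mem_of_maps {g : pres.Gp} (h : ∀ i : Pt, lab i = 0 → lab (act g i : Pt) = 0) :
    g ∈ HM := by
  classical
  intro i
  refine ⟨fun hi => ?_, h i⟩
  set S := Finset.univ.filter fun i : Pt => lab i = 0 with hS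
  have himg : S.image (act g) = S := by
    refine Finset.eq_of_subset_of_card_le (fun x hx => ?_) ?_
    · obtain ⟨y, hy, rfl⟩ := Finset.mem_image.mp hx
      rw [hS, Finset.mem_filter] at hy ⊢
      exact ⟨Finset.mem_univ _, h y hy.2⟩
    · rw [Finset.card_image_of_injective _ (act g).injective]
  have : act g i ∈ S.image (act g) := by
    rw [himg, hS, Finset.mem_filter]
    exact ⟨Finset.mem_univ _, hi⟩
  obtain ⟨y, hy, he⟩ := Finset.mem_image.mp this
  rw [← (act g).injective he]
  exact (Finset.mem_filter.mp hy).2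

theorem gens_pres {g : ℕ} (hg : g < 15) : ∀ i < 31671, presOK (gen g) i = true := by
  interval_cases g
  exacts [pres0, pres1, pres2, pres3, pres4, pres5, pres6, pres7, pres8, pres9, pres10, pres11,
    pres12, pres13, pres14]

theorem gen_ok {g : ℕ} (hg : g < 15) : okW (gen g) = true := by
  have h := gens_letters
  rw [List.all_eq_true] at h
  rw [gen, List.getD_eq_getElem _ _ (by rw [gens_len]; exact hg)]
  exact h _ (List.getElem_mem _)

theorem gen_mem {g : ℕ} (hg : g < 15) : ev (gen g) ∈ HM := by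
  rw [← inv_mem_iff]
  refine inv_mem_of_maps fun i hi => ?_
  rw [map_inv, act_inv_apply (gen_ok hg)]
  have h := gens_pres hg i i.2
  rw [presOK, show Nat.beq (lab i) 0 = true by rw [hi]; rfl, cond_true] at h
  exact Nat.eq_of_beq_eq_true h

theorem wordOf_ok : ∀ {ks : List ℕ}, (ks.all fun g => Nat.blt g 15) = true →
    okW (wordOf ks) = true ∧ ev (wordOf ks) ∈ HM
  | [], _ => ⟨rfl, by rw [show ev (wordOf []) = 1 by rw [ev, evalWord.eq_def]; rfl]; exact one_mem _⟩
  | g :: ks, h => by
    rw [List.all_cons, Bool.and_eq_true] at h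
    obtain ⟨h1, h2⟩ := wordOf_ok h.2
    rw [show wordOf (g :: ks) = gen g ++ wordOf ks from rfl, okW_append, ev_append]
    have hg : g < 15 := Nat.le_of_ble_eq_true h.1
    exact ⟨by rw [gen_ok hg, h1]; rfl, mul_mem (gen_mem hg) h2⟩

theorem lab_lt (i : Pt) : lab i < 3 := by
  have h := up_ok i i.2
  rw [upOK, forceNat_eq, Bool.and_eq_true] at h
  exact Nat.le_of_ble_eq_true h.1

/-- The root of a class. -/
noncomputable def root (c : ℕ) : Pt := mk (roots.getD c 0)

theorem reach : ∀ i : Pt, ∃ g ∈ HM, act g (root (lab i)) = i := by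
  suffices ∀ m, ∀ i : Pt, rank i ≤ m → ∃ g ∈ HM, act g (root (lab i)) = i from
    fun i => this (rank i) i le_rfl
  intro m
  induction m using Nat.strong_induction_on with
  | _ m ih =>
    intro i hm
    have h := up_ok i i.2
    rw [upOK, forceNat_eq, Bool.and_eq_true, Bool.or_eq_true] at h
    rcases h.2 with h0 | h0
    · refine ⟨1, one_mem _, ?_⟩
      rw [map_one, Equiv.Perm.one_apply, root, ← Nat.eq_of_beq_eq_true h0, mk_val]
    · rw [forceNat_eq, Bool.and_eq_true, forceNat_eq, Bool.and_eq_true] at h0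
      have hj : pick i < 15 := lt_trans (Nat.le_of_ble_eq_true h0.1) (by norm_num)
      set p := act (ev (gen (pick i))) i with hp
      have hpv : (p : ℕ) = Rep.tbl.run (gen (pick i)).reverse i := act_apply (gen_ok hj) i
      rw [← hpv] at h0
      have hlt : rank p < rank i := Nat.le_of_ble_eq_true h0.2.2
      obtain ⟨g, hg, he⟩ := ih (rank p) (hlt.trans_le hm) p le_rfl
      rw [Nat.eq_of_beq_eq_true h0.2.1] at he
      refine ⟨(ev (gen (pick i)))⁻¹ * g, mul_mem (inv_mem (gen_mem hj)) hg, ?_⟩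
      rw [map_mul, Equiv.Perm.mul_apply, he, hp, map_inv]
      exact Equiv.symm_apply_apply _ i

theorem same_class {i j : Pt} (h : lab i = lab j) : ∃ g ∈ HM, act g i = j := by
  obtain ⟨a, ha, hai⟩ := reach i
  obtain ⟨b, hb, hbj⟩ := reach j
  refine ⟨b * a⁻¹, mul_mem hb (inv_mem ha), ?_⟩
  rw [map_mul, map_inv, Equiv.Perm.mul_apply, ← hai, ← hbj, h]
  exact congrArg _ (Equiv.symm_apply_apply _ _)

end Cfsg.Agent.CosetEnum.Fi23.Max
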