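import Cfsg.Agent.SporB.Fi23.Max.Group
import Cfsg.Agent.SporB.Fi23.Max.CertLevels
import Cfsg.Agent.SporB.Fi23.Max.CertPins
import Cfsg.Agent.SporB.Fi23.Max.CertLetters0
import Cfsg.Agent.SporB.Fi23.Max.CertLetters1

/-!
The order of the stabiliser of the class 0.
-/

set_option autoImplicit false
set_option maxRecDepth 100000

namespace Cfsg.Agent.CosetEnum.Fi23.Max

open Fi23

attribute [local irreducible] evalWord

theorem pins_data : (∀ k < 66, okW (pp k) = true ∧ pn k < 31671 ∧ pt (pp k) = mk (pn k)) ∧
    (∀ k < 6, bpaths.getD k [] = pp k ∧ bpts.getD k 0 = pn k) ∧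
    (∀ l < 10, okW (letterPaths.getD l []) = true ∧ letterPts.getD l 0 < 31671 ∧
      pt (letterPaths.getD l []) = mk (letterPts.getD l 0)) ∧
    letterPts.getD 9 0 = pn 65 ∧ (∀ k ∈ useA, k < 64) ∧ (∀ k ∈ useL, k < 65) ∧
    (∀ us ∈ letterUse, ∀ k ∈ us, k < 66) := by
  have h := pinPaths_ok
  simp only [pinPathsOK, Bool.and_eq_true, List.all_eq_true, List.mem_range, decide_eq_true_eq] at h
  obtain ⟨⟨⟨⟨⟨⟨⟨⟨-, -⟩, h1⟩, h2⟩, h3⟩, h4⟩, h5⟩, h6⟩, h7⟩ := h
  refine ⟨fun k hk => ?_, fun k hk => ⟨(h2 k hk).2, Nat.eq_of_beq_eq_true (h2 k hk).1.2⟩,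
    fun l hl => ?_, Nat.eq_of_beq_eq_true h4, fun k hk => Nat.le_of_ble_eq_true (h5 k hk),
    fun k hk => Nat.le_of_ble_eq_true (h6 k hk), fun us hu k hk => Nat.le_of_ble_eq_true (h7 us hu k hk)⟩
  · have e := pt_val (h1 k hk).1
    rw [Nat.eq_of_beq_eq_true (h1 k hk).2] at e
    refine ⟨(h1 k hk).1, by rw [← e]; exact (pt (pp k)).2, ?_⟩
    rw [← e, mk_val]
  · have e := pt_val (h3 l hl).1
    rw [Nat.eq_of_beq_eq_true (h3 l hl).2] at e
    refine ⟨(h3 l hl).1, by rw [← e]; exact (pt _).2, ?_⟩
    rw [← e, mk_val]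

/-- The base points. -/
noncomputable def bp (k : ℕ) : Pt := pt (pp k)

theorem bp_val {k : ℕ} (hk : k < 66) : (bp k : ℕ) = pn k := by
  obtain ⟨-, hlt, e⟩ := pins_data.1 k hk
  rw [bp, e, val_mk hlt]

/-- The stabiliser of the class 0 and of the first base points. -/
noncomputable def lvl : ℕ → Subgroup pres.Gp
  | 0 => HM
  | k + 1 => lvl k ⊓ fixer (bp k)

theorem lvl_fix : ∀ {j : ℕ} {g : pres.Gp}, g ∈ lvl j → g ∈ HM ∧ ∀ k < j, act g (bp k) = bp k
  | 0, g, h => ⟨h, fun k hk => absurd hk k.not_lt_zero⟩
  | j + 1, g, h => by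
    obtain ⟨h1, h2⟩ := lvl_fix (j := j) h.1
    refine ⟨h1, fun k hk => ?_⟩
    rcases Nat.lt_succ_iff_lt_or_eq.mp hk with h' | rfl
    · exact h2 k h'
    · exact h.2

theorem mem_lvl : ∀ {j : ℕ} {g : pres.Gp}, g ∈ HM → (∀ k < j, act g (bp k) = bp k) → g ∈ lvl j
  | 0, g, h, _ => h
  | j + 1, g, h, h' => ⟨mem_lvl h fun k hk => h' k (by omega), h' j (by omega)⟩

theorem level_ok {j : ℕ} (h1 : 1 ≤ j) (h2 : j < 6) : ∀ i < 31671, levelOK j i = true := by
  interval_cases j
  exacts [level1_ok, level2_ok, level3_ok, level4_ok, level5_ok]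

theorem card_level {j : ℕ} (h1 : 1 ≤ j) (h2 : j < 6) :
    Nat.card (lvl j) = (cand j).length * Nat.card (lvl (j + 1)) := by
  classical
  have h := trees_ok
  rw [List.all_eq_true] at h
  have hj := h (j - 1) (List.mem_range.mpr (by omega))
  rw [show j - 1 + 1 = j by omega, Bool.and_eq_true] at hj
  obtain ⟨ht, hg⟩ := hj
  simp only [treeOK, Bool.and_eq_true, decide_eq_true_eq, List.all_eq_true, List.mem_range,
    Bool.or_eq_true, List.any_eq_true] at ht
  obtain ⟨⟨⟨⟨hroot, hlab⟩, hlt⟩, hnd⟩, htree⟩ := ht
  obtain ⟨hb1, hb2⟩ := pins_data.2.1 j h2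
  have hbj : (bp j : ℕ) = bpts.getD j 0 := by rw [bp_val (by omega), hb2]
  let O : Finset Pt := ((cand j).map mk).toFinset
  have hcard : O.card = (cand j).length := by
    rw [List.toFinset_card_of_nodup, List.length_map]
    refine hnd.map_on ?_
    intro x hx y hy e
    rw [← val_mk (Nat.le_of_ble_eq_true (hlt x hx)), e, val_mk (Nat.le_of_ble_eq_true (hlt y hy))]
  rw [← hcard]
  refine card_orbit (lvl j) (bp j) O ?_ ?_
  · intro g hgm
    obtain ⟨hH, hfix⟩ := lvl_fix hgm
    have hi := level_ok h1 h2 (act g (bp j) : Pt) (act g (bp j)).2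
    have hl0 : lab (act g (bp j) : Pt) = 0 :=
      (hH (bp j)).mpr (by rw [hbj]; exact Nat.eq_of_beq_eq_true hlab)
    rw [levelOK, hl0, show Nat.beq 0 0 = true from rfl, cond_true] at hi
    have hm : ((act g (bp j) : Pt) : ℕ) ∈ cand j := by
      simp only [candOK, Bool.or_eq_true, Bool.not_eq_true'] at hi
      rcases hi with hi | hi
      · exfalso
        rw [← Bool.not_eq_true, List.all_eq_true] at hi
        apply hi
        intro W hW
        obtain ⟨k, hk, rfl⟩ := List.getElem_of_mem hW
        rw [List.length_take] at hk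
        rw [List.getElem_take, ← List.getD_eq_getElem _ [] (by omega)]
        rw [(pins_data.2.1 k (by omega)).1, ← hbj,
          cls_inv (pins_data.1 k (by omega)).1 (hfix k (by omega))]
        exact Nat.beq_refl _
      · rw [List.any_eq_true] at hi
        obtain ⟨x, hx, he⟩ := hi
        rwa [Nat.eq_of_beq_eq_true he]
    rw [List.mem_toFinset, List.mem_map]
    exact ⟨_, hm, mk_val _⟩
  · intro o ho
    rw [List.mem_toFinset, List.mem_map] at ho
    obtain ⟨x, hx, rfl⟩ := ho
    obtain ⟨k, hk, rfl⟩ := List.getElem_of_mem hx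
    induction k using Nat.strong_induction_on with
    | _ k ih =>
      rcases htree k hk with h0 | h0
      · obtain rfl := Nat.eq_of_beq_eq_true h0
        refine ⟨1, one_mem _, ?_⟩
        rw [map_one, Equiv.Perm.one_apply, ← List.getD_eq_getElem _ 0 hk,
          Nat.eq_of_beq_eq_true hroot, ← hbj, mk_val]
      · obtain ⟨⟨hp, ⟨g, hgm, hge⟩⟩, hrun⟩ := h0
        set e := (tree j).getD k (0, 0)
        obtain rfl := Nat.eq_of_beq_eq_true hge
        have hp' : e.1 < (cand j).length := lt_trans (Nat.le_of_ble_eq_true hp : e.1 < k) hk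
        obtain ⟨u, hu, hue⟩ := ih e.1 (Nat.le_of_ble_eq_true hp) hp' (List.getElem_mem hp')
        simp only [lgensOK, List.all_eq_true, Bool.and_eq_true, List.mem_range] at hg
        obtain ⟨hg15, hgfix⟩ := hg _ hgm
        have hg15' : e.2 < 15 := Nat.le_of_ble_eq_true hg15
        have hgl : (ev (gen e.2))⁻¹ ∈ lvl j := by
          refine mem_lvl (inv_mem (gen_mem hg15')) fun i hi => ?_
          apply Fin.ext
          rw [map_inv, act_inv_apply (gen_ok hg15'), bp_val (by omega),
            ← (pins_data.2.1 i (by omega)).2]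
          exact Nat.eq_of_beq_eq_true (hgfix i hi)
        refine ⟨(ev (gen e.2))⁻¹ * u, mul_mem hgl hu, ?_⟩
        rw [map_mul, Equiv.Perm.mul_apply, hue]
        apply Fin.ext
        rw [map_inv, act_inv_apply (gen_ok hg15'), val_mk (Nat.le_of_ble_eq_true (hlt _ (List.getElem_mem hp'))),
          val_mk (Nat.le_of_ble_eq_true (hlt _ (List.getElem_mem hk))),
          ← List.getD_eq_getElem _ 0 hp', ← List.getD_eq_getElem _ 0 hk]
        exact Nat.eq_of_beq_eq_true hrun

theorem count12 : countBelow (fun i => !Nat.beq (lab i) 0) 31671 = 31347 := by decide +kernel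

theorem card_filter {p : ℕ → Bool} {m : ℕ} (h : countBelow p 31671 = m) :
    (Finset.univ.filter fun i : Pt => p i = true).card = m := by
  classical
  rw [← h, ← ncard_fin_filter 31671 p, ← Set.ncard_coe_finset]
  congr 1
  ext i
  simp only [Finset.coe_filter, Finset.mem_univ, true_and]
  exact Iff.rfl

theorem card_zero : Nat.card (lvl 0) = 11664 * Nat.card (lvl 1) := by
  classical
  have hb : lab (bp 0) = 1 := by
    rw [bp_val (by norm_num)]
    exact Nat.eq_of_beq_eq_true (by decide +kernel : Nat.beq (lab (pn 0)) 1 = true)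
  have hne : ∀ g ∈ HM, lab (act g (bp 0) : Pt) ≠ 0 := fun g hg e => by
    have := (hg (bp 0)).mp e
    omega
  have key : ∀ g ∈ HM, lab (act g (bp 0) : Pt) = 1 := by
    intro g hg
    by_contra hc
    have h2 : lab (act g (bp 0) : Pt) = 2 := by
      have := lab_lt (act g (bp 0))
      have := hne g hg
      omega
    have hc' := card_orbit HM (bp 0) (Finset.univ.filter fun i : Pt => (!Nat.beq (lab i) 0) = true)
      (fun k hk => Finset.mem_filter.mpr ⟨Finset.mem_univ _, by
        rw [Bool.not_eq_true', ← Bool.not_eq_true, Nat.beq_eq]; exact hne k hk⟩) (fun o ho => ?_)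
    · rw [card_filter count12] at hc'
      have hd : 31347 ∣ Nat.card pres.Gp :=
        (Dvd.intro _ hc'.symm).trans (Subgroup.card_subgroup_dvd_card HM)
      rw [card_eq] at hd
      norm_num at hd
    · have hol : lab o ≠ 0 := by
        have := (Finset.mem_filter.mp ho).2
        rwa [Bool.not_eq_true', ← Bool.not_eq_true, Nat.beq_eq] at this
      have := lab_lt o
      rcases (show lab o = 1 ∨ lab o = 2 by omega) with h | h
      · exact same_class (hb.trans h.symm)
      · obtain ⟨k, hk, hke⟩ := same_class (h2.trans h.symm)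
        refine ⟨k * g, mul_mem hk hg, ?_⟩
        rw [map_mul, Equiv.Perm.mul_apply, hke]
  rw [← card_filter count1]
  refine card_orbit HM (bp 0) _ (fun g hg => Finset.mem_filter.mpr ⟨Finset.mem_univ _, ?_⟩) ?_
  · rw [key g hg]; rfl
  · intro o ho
    exact same_class (hb.trans (Nat.eq_of_beq_eq_true (Finset.mem_filter.mp ho).2).symm)

theorem pins_fix {g : pres.Gp} (hg : g ∈ lvl 6) : ∀ k < 64, act g (bp k) = bp k := by
  intro k
  induction k using Nat.strong_induction_on with
  | _ k ih =>
    intro hk
    rcases Nat.lt_or_ge k 6 with h | h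
    · exact (lvl_fix hg).2 k h
    · have hs := allRange_spec steps_ok (k - 6) (Nat.zero_le _) (by omega)
      rw [stepOK, forceNat_eq, forceNat_eq] at hs
      simp only [Bool.and_eq_true] at hs
      set i := (pinSteps.getD (k - 6) (0, 0)).1
      set j := (pinSteps.getD (k - 6) (0, 0)).2
      have hi : i < k := by have : i < 6 + (k - 6) := Nat.le_of_ble_eq_true hs.1.1; omega
      have hj : j < k := by have : j < 6 + (k - 6) := Nat.le_of_ble_eq_true hs.1.2; omega
      have hc := comm_of_fix (W := pp i) (ih i hi (by omega))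
      have he : act (dd (pp i)) (bp j) = bp k := by
        apply Fin.ext
        have hok : okW (dW i) = true := by
          rw [dW, okW_append, okW_append, okW_rev, (pins_data.1 i (by omega)).1]
          decide +kernel
        rw [← dd_inv, map_inv, dd_ev, show (pp i).reverse ++ Rep.zWord ++ pp i = dW i from rfl,
          act_inv_apply hok, bp_val (by omega), bp_val (by omega)]
        have := Nat.eq_of_beq_eq_true hs.2
        rwa [show 6 + (k - 6) = k by omega] at this
      rw [← he, ← Equiv.Perm.mul_apply, ← map_mul, hc.eq, map_mul, Equiv.Perm.mul_apply,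
        ih j hj (by omega)]

theorem center_bot : Subgroup.center pres.Gp = ⊥ := by
  haveI := simple
  rcases (inferInstance : (Subgroup.center pres.Gp).Normal).eq_bot_or_eq_top with h | h
  · exact h
  exfalso
  letI : CommGroup pres.Gp :=
    { (inferInstance : Group pres.Gp) with
      mul_comm := fun a b => (Subgroup.mem_center_iff.mp (h ▸ Subgroup.mem_top b) a) }
  have hp := IsSimpleGroup.prime_card (α := pres.Gp)
  rw [card_eq] at hp
  exact absurd hp (by norm_num)

theorem dW_ok {i : ℕ} (hi : i < 66) : okW (dW i) = true := by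
  rw [dW, okW_append, okW_append, okW_rev, (pins_data.1 i hi).1]
  decide +kernel

theorem dd_apply {i k : ℕ} (hi : i < 66) {x : Pt} (h : Nat.beq (Rep.tbl.run (dW i) x) k = true) :
    ((act (dd (pp i)) x : Pt) : ℕ) = k := by
  rw [← dd_inv, map_inv, dd_ev, show (pp i).reverse ++ Rep.zWord ++ pp i = dW i from rfl,
    act_inv_apply (dW_ok hi)]
  exact Nat.eq_of_beq_eq_true h

theorem letter_paths : letterPaths.getD 1 [] = Rep.conjU ∧ Rep.conjL = 1 ∧
    ∀ e ∈ [(1, 0), (1, 2), (2, 3), (3, 4), (4, 5), (5, 6), (6, 7), (3, 8), (8, 9)],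
      letterPaths.getD e.2 [] = letterPaths.getD e.1 [] ++ [e.2, e.1] := by
  decide +kernel

theorem val_letter : ∀ l < 10, pres.val l = dd (letterPaths.getD l []) := by
  obtain ⟨h1, hL, hstep⟩ := letter_paths
  have e1 : pres.val 1 = dd (letterPaths.getD 1 []) := by
    rw [h1, dd, z_conj, hL]
    show _ = (ev Rep.conjU)⁻¹ * (ev Rep.conjU * pres.val 1 * (ev Rep.conjU)⁻¹) * ev Rep.conjU
    group
  have step : ∀ i j, i < 10 → j < 10 → (i, j) ∈ [(1, 0), (1, 2), (2, 3), (3, 4), (4, 5), (5, 6),
      (6, 7), (3, 8), (8, 9)] → [i, j, i, j, i, j] ∈ pres.relWords → [i, i] ∈ pres.relWords →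
      [j, j] ∈ pres.relWords → pres.val i = dd (letterPaths.getD i []) →
      pres.val j = dd (letterPaths.getD j []) := by
    intro i j _ _ he h hi hj hval
    have a1 := pres.rel_val _ h
    have a2 := pres.rel_val _ hi
    have a3 := pres.rel_val _ hj
    rw [evalWord.eq_def] at a1 a2 a3
    simp only [evalWord.eq_def, mul_one] at a1 a2 a3
    have e2 : ev [j, i] = pres.val j * pres.val i := by
      simp only [ev, evalWord.eq_def, mul_one]
    refine (braid a2 a3 (by simpa [mul_one] using a1)).symm.trans ?_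
    have hi2 : (pres.val i)⁻¹ = pres.val i := inv_eq_of_mul_eq_one_right a2
    have hj2 : (pres.val j)⁻¹ = pres.val j := inv_eq_of_mul_eq_one_right a3
    have hd : dd (letterPaths.getD j []) =
        (pres.val j * pres.val i)⁻¹ * dd (letterPaths.getD i []) * (pres.val j * pres.val i) := by
      rw [hstep (i, j) he, dd, dd, ev_append, e2]
      group
    rw [hd, ← hval, mul_inv_rev, mul_inv_rev, hi2, hj2]
  have h0 := step 1 0 (by omega) (by omega) (by decide) (by decide +kernel) (by decide +kernel) (by decide +kernel) e1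
  have h2 := step 1 2 (by omega) (by omega) (by decide) (by decide +kernel) (by decide +kernel) (by decide +kernel) e1
  have h3 := step 2 3 (by omega) (by omega) (by decide) (by decide +kernel) (by decide +kernel) (by decide +kernel) h2
  have h4 := step 3 4 (by omega) (by omega) (by decide) (by decide +kernel) (by decide +kernel) (by decide +kernel) h3
  have h5 := step 4 5 (by omega) (by omega) (by decide) (by decide +kernel) (by decide +kernel) (by decide +kernel) h4
  have h6 := step 5 6 (by omega) (by omega) (by decide) (by decide +kernel) (by decide +kernel) (by decide +kernel) h5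
  have h7 := step 6 7 (by omega) (by omega) (by decide) (by decide +kernel) (by decide +kernel) (by decide +kernel) h6
  have h8 := step 3 8 (by omega) (by omega) (by decide) (by decide +kernel) (by decide +kernel) (by decide +kernel) h3
  have h9 := step 8 9 (by omega) (by omega) (by decide) (by decide +kernel) (by decide +kernel) (by decide +kernel) h8
  intro l hl
  interval_cases l
  exacts [h0, e1, h2, h3, h4, h5, h6, h7, h8, h9]

theorem letters_ok {l : ℕ} (hl : l < 9) : ∀ i < 31671, letterOK l i = true := by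
  interval_cases l
  exacts [letter0_ok, letter1_ok, letter2_ok, letter3_ok, letter4_ok, letter5_ok, letter6_ok,
    letter7_ok, letter8_ok]

theorem letterUse_len : letterUse.length = 9 := by decide +kernel

theorem eq_one_of_fix66 {g : pres.Gp} (h : ∀ k < 66, act g (bp k) = bp k) : g = 1 := by
  obtain ⟨hpp, -, hlet, h9, -, -, huse⟩ := pins_data
  have hfix : ∀ l < 10, act g (pt (letterPaths.getD l [])) = pt (letterPaths.getD l []) := by
    intro l hl
    rcases Nat.lt_or_ge l 9 with h' | h'
    · obtain ⟨-, hlt, hpt⟩ := hlet l hl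
      have hu : ∀ k ∈ letterUse.getD l [], k < 66 := fun k hk => huse _ (by
        rw [List.getD_eq_getElem _ _ (by rw [letterUse_len]; exact h')]
        exact List.getElem_mem _) k hk
      have hm := mem_allowed (Ws := (letterUse.getD l []).map pp)
        (allowed := [letterPts.getD l 0]) (t := mk (letterPts.getD l 0)) (g := g)
        (fun W hW => by
          obtain ⟨k, hk, rfl⟩ := List.mem_map.mp hW
          exact (hpp k (hu k hk)).1)
        (fun i hi => by rw [val_mk hlt]; exact letters_ok h' i hi)
        (fun W hW => by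
          obtain ⟨k, hk, rfl⟩ := List.mem_map.mp hW
          exact h k (hu k hk))
      rw [List.mem_singleton] at hm
      rw [hpt]
      exact Fin.ext (hm.trans (val_mk hlt).symm)
    · obtain rfl : l = 9 := by omega
      rw [(hlet 9 hl).2.2, h9, ← (hpp 65 (by omega)).2.2]
      exact h 65 (by omega)
  have hc : g ∈ Subgroup.center pres.Gp := by
    have : (⊤ : Subgroup pres.Gp) ≤ Subgroup.centralizer {g} := by
      rw [← pres.closure_val, Subgroup.closure_le]
      rintro _ ⟨l, hl, rfl⟩
      rw [SetLike.mem_coe, Subgroup.mem_centralizer_singleton_iff, val_letter l hl]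
      exact (comm_of_fix (hfix l hl)).eq.symm
    rw [Subgroup.mem_center_iff]
    exact fun x => Subgroup.mem_centralizer_singleton_iff.mp (this (Subgroup.mem_top x))
  rwa [center_bot, Subgroup.mem_bot] at hc

theorem lvl_six : lvl 6 = ⊥ := by
  rw [eq_bot_iff]
  intro g hg
  rw [Subgroup.mem_bot]
  obtain ⟨hpp, -, -, -, hua, hul, -⟩ := pins_data
  have hf := pins_fix hg
  have h64 : act g (bp 64) = bp 64 := by
    have hm := mem_allowed (Ws := useA.map pp) (allowed := [pn 64]) (t := bp 64) (g := g)
      (fun W hW => by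
        obtain ⟨k, hk, rfl⟩ := List.mem_map.mp hW
        exact (hpp k ((hua k hk).trans (by norm_num))).1)
      (fun i hi => by rw [bp_val (by omega)]; exact a_ok i hi)
      (fun W hW => by
        obtain ⟨k, hk, rfl⟩ := List.mem_map.mp hW
        exact hf k (hua k hk))
    rw [List.mem_singleton] at hm
    exact Fin.ext (hm.trans (bp_val (by omega)).symm)
  have hfix : ∀ k < 65, act g (bp k) = bp k := fun k hk => by
    rcases Nat.lt_or_ge k 64 with h | h
    · exact hf k h
    · obtain rfl : k = 64 := by omega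
      exact h64
  have hm := mem_allowed (Ws := useL.map pp) (allowed := [pn 65, swapL]) (t := bp 65) (g := g)
    (fun W hW => by
      obtain ⟨k, hk, rfl⟩ := List.mem_map.mp hW
      exact (hpp k ((hul k hk).trans (by norm_num))).1)
    (fun i hi => by rw [bp_val (by omega)]; exact l_ok i hi)
    (fun W hW => by
      obtain ⟨k, hk, rfl⟩ := List.mem_map.mp hW
      exact hfix k (hul k hk))
  simp only [List.mem_cons, List.not_mem_nil, or_false] at hm
  rcases hm with hm | hm
  · refine eq_one_of_fix66 fun k hk => ?_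
    rcases Nat.lt_or_ge k 65 with h | h
    · exact hfix k h
    · obtain rfl : k = 65 := by omega
      exact Fin.ext (hm.trans (bp_val (by omega)).symm)
  · exfalso
    have hs := swap_ok
    simp only [swapOK, Bool.and_eq_true, List.all_eq_true, List.mem_range] at hs
    obtain ⟨⟨⟨⟨hs1, hs2⟩, hout⟩, hout0⟩, hout1⟩ := hs
    have hone : dd (pp 64) * g = 1 := eq_one_of_fix66 fun k hk => by
      rw [map_mul, Equiv.Perm.mul_apply]
      apply Fin.ext
      rw [bp_val hk]
      rcases Nat.lt_or_ge k 65 with h | h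
      · rw [hfix k h]
        exact dd_apply (by omega) (by rw [bp_val hk]; exact hs1 k h)
      · obtain rfl : k = 65 := by omega
        exact dd_apply (by omega) (by rw [hm]; exact hs2)
    have hgd : dd (pp 64) ∈ HM := by
      rw [eq_inv_of_mul_eq_one_left hone]
      exact inv_mem (lvl_fix hg).1
    have hlt : outPt < 31671 := Nat.le_of_ble_eq_true hout
    have h0 := (hgd (mk outPt)).mpr (by rw [val_mk hlt]; exact Nat.eq_of_beq_eq_true hout0)
    rw [dd_apply (by omega) (k := Rep.tbl.run (dW 64) outPt) (by rw [val_mk hlt]; exact Nat.beq_refl _)] at h0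
    rw [h0] at hout1
    exact absurd hout1 (by decide)

theorem lens : cand1.length = 36 ∧ cand2.length = 18 ∧ cand3.length = 24 ∧ cand4.length = 6 ∧
    cand5.length = 3 := by decide +kernel

theorem card_HM : Nat.card HM = 2 ^ 11 * 3 ^ 13 := by
  obtain ⟨l1, l2, l3, l4, l5⟩ := lens
  change Nat.card (lvl 0) = _
  rw [card_zero, card_level (j := 1) (by omega) (by omega), card_level (j := 2) (by omega) (by omega),
    card_level (j := 3) (by omega) (by omega), card_level (j := 4) (by omega) (by omega),
    card_level (j := 5) (by omega) (by omega), lvl_six, Subgroup.card_bot,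
    show cand 1 = cand1 from rfl, show cand 2 = cand2 from rfl, show cand 3 = cand3 from rfl,
    show cand 4 = cand4 from rfl, show cand 5 = cand5 from rfl, l1, l2, l3, l4, l5]
  norm_num

end Cfsg.Agent.CosetEnum.Fi23.Max
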